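import Mathlib
import Groth.Prelude.Def_BrSev2

/-!
# Natural transformations of points on affine schemes come from morphisms
-/

set_option autoImplicit false

universe u

open CategoryTheory AlgebraicGeometry TopologicalSpace

namespace Groth.Agent.H02CA.SB

variable {k : Type u} [Field k] {X : Scheme.{u}} {f : X ⟶ Spec (CommRingCat.of k)}

/-- Compatible structure maps give algebra maps. -/
lemma algebraMap_comp_of_spec {R S : Type u} [CommRing R] [Algebra k R] [CommRing S] [Algebra k S] (φ : R →+* S)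
    {Y : Scheme.{u}} (p : Spec (CommRingCat.of R) ⟶ Y) (q : Y ⟶ Spec (CommRingCat.of k))
    (hp : p ≫ q = Spec.map (CommRingCat.ofHom (algebraMap k R)))
    (hφ : (Spec.map (CommRingCat.ofHom φ) ≫ p) ≫ q = Spec.map (CommRingCat.ofHom (algebraMap k S))) :
    φ.comp (algebraMap k R) = algebraMap k S := by
  have : Spec.map (CommRingCat.ofHom (φ.comp (algebraMap k R))) = Spec.map (CommRingCat.ofHom (algebraMap k S)) := by
    rw [CommRingCat.ofHom_comp, Spec.map_comp, ← hp, ← Category.assoc, hφ]
  exact congrArg CommRingCat.Hom.hom (Spec.map_injective this)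

section Chart

variable (f) (U : X.affineOpens)

/-- The structure of the ring of sections on an affine open. -/
noncomputable abbrev secHom : k →+* Γ(X, U.1) := (Spec.preimage (U.2.fromSpec ≫ f)).hom

/-- The algebra structure on the ring of sections on an affine open. -/
noncomputable abbrev secAlg : Algebra k Γ(X, U.1) := (secHom f U).toAlgebra

/-- The tautological point. -/
noncomputable def secPt : @BrSev.Pts k _ X f Γ(X, U.1) _ (secAlg f U) :=
  ⟨U.2.fromSpec, (Spec.map_preimage (U.2.fromSpec ≫ f)).symm⟩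

end Chart

/-- A point is locally induced by the tautological points. -/
lemma pts_factor {R : Type u} [CommRing R] [Algebra k R] (g : BrSev.Pts f R) (x : Spec (CommRingCat.of R)) :
    ∃ r : R, x ∈ Set.range (Spec.map (CommRingCat.ofHom (algebraMap R (Localization.Away r)))) ∧ ∃ U : X.affineOpens,
      letI := secAlg f U
      ∃ φ : Γ(X, U.1) →ₐ[k] Localization.Away r,
        BrSev.Pts.map f φ (secPt f U) = BrSev.Pts.map f (IsScalarTower.toAlgHom k R (Localization.Away r)) g := by
  obtain ⟨U, hU0, hxU, -⟩ := (Opens.isBasis_iff_nbhd.mp X.isBasis_affineOpens) (Opens.mem_top (g.1 x))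
  have hU : IsAffineOpen U := hU0
  obtain ⟨_, ⟨r, rfl⟩, hxr, hr⟩ := PrimeSpectrum.isTopologicalBasis_basic_opens.exists_subset_of_mem_open
    (show x ∈ (g.1 ⁻¹ᵁ U : Set _) from hxU) (g.1 ⁻¹ᵁ U).isOpen
  have hj : Set.range (Spec.map (CommRingCat.ofHom (algebraMap R (Localization.Away r)))) =
      (PrimeSpectrum.basicOpen r : Set (PrimeSpectrum R)) := PrimeSpectrum.localization_away_comap_range _ r
  refine ⟨r, hj.symm ▸ hxr, ⟨U, hU⟩, ?_⟩
  letI := secAlg f ⟨U, hU⟩
  let h := Spec.map (CommRingCat.ofHom (algebraMap R (Localization.Away r))) ≫ g.1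
  have hrange : Set.range h ⊆ Set.range hU.fromSpec := by
    rintro _ ⟨y, rfl⟩
    rw [hU.range_fromSpec]
    exact hr (hj.subset ⟨y, rfl⟩)
  let φ := (Spec.preimage (IsOpenImmersion.lift hU.fromSpec h hrange)).hom
  have hφ : Spec.map (CommRingCat.ofHom φ) ≫ hU.fromSpec = h := by
    simp only [φ, CommRingCat.ofHom_hom, Spec.map_preimage, IsOpenImmersion.lift_fac]
  have hcomm : φ.comp (algebraMap k Γ(X, U)) = algebraMap k (Localization.Away r) :=
    algebraMap_comp_of_spec φ (secPt f ⟨U, hU⟩).1 f (secPt f ⟨U, hU⟩).2 (by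
      show (Spec.map (CommRingCat.ofHom φ) ≫ hU.fromSpec) ≫ f = _
      rw [hφ]
      show (Spec.map _ ≫ g.1) ≫ f = _
      rw [Category.assoc, g.2]
      exact BrSev.specMap_comp_specMap_algebraMap (IsScalarTower.toAlgHom k R (Localization.Away r)))
  exact ⟨{ φ with commutes' := fun a => RingHom.congr_fun hcomm a }, Subtype.ext hφ⟩

/-- Morphisms out of an affine scheme can be compared on a principal cover. -/
lemma spec_hom_ext {R : Type u} [CommRing R] {Y : Scheme.{u}} {a b : Spec (CommRingCat.of R) ⟶ Y}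
    (h : ∀ x, ∃ r : R, x ∈ Set.range (Spec.map (CommRingCat.ofHom (algebraMap R (Localization.Away r)))) ∧
      Spec.map (CommRingCat.ofHom (algebraMap R (Localization.Away r))) ≫ a =
        Spec.map (CommRingCat.ofHom (algebraMap R (Localization.Away r))) ≫ b) : a = b := by
  choose r hr hab using h
  let 𝒰 : (Spec (CommRingCat.of R)).OpenCover := Scheme.Cover.mkOfCovers (Spec (CommRingCat.of R))
    (fun x => Spec (CommRingCat.of (Localization.Away (r x))))
    (fun x => Spec.map (CommRingCat.ofHom (algebraMap R (Localization.Away (r x)))))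
    (fun x => ⟨x, hr x⟩) (fun x => inferInstance)
  exact 𝒰.hom_ext _ _ hab

/-- Morphisms are determined by their effect on points. -/
theorem hom_eq_of_pts {Y : Scheme.{u}} {M M' : X ⟶ Y}
    (h : ∀ (R : Type u) [CommRing R] [Algebra k R] (g : BrSev.Pts f R), g.1 ≫ M = g.1 ≫ M') : M = M' := by
  refine X.directedAffineCover.hom_ext _ _ fun U => ?_
  letI := secAlg f U
  have := h Γ(X, U.1) (secPt f U)
  change U.1.ι ≫ M = U.1.ι ≫ M'
  rw [← cancel_epi U.2.isoSpec.inv]
  exact (Category.assoc _ _ _).symm.trans (this.trans (Category.assoc _ _ _))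

/-- A natural transformation of points comes from a morphism. -/
theorem exists_hom (Φ : ∀ (R : Type u) [CommRing R] [Algebra k R], BrSev.Pts f R → BrSev.Pts f R)
    (hΦ : ∀ (R S : Type u) [CommRing R] [Algebra k R] [CommRing S] [Algebra k S] (φ : R →ₐ[k] S) (g : BrSev.Pts f R),
      Φ S (BrSev.Pts.map f φ g) = BrSev.Pts.map f φ (Φ R g)) :
    ∃ M : X ⟶ X, M ≫ f = f ∧
      ∀ (R : Type u) [CommRing R] [Algebra k R] (g : BrSev.Pts f R), (Φ R g).1 = g.1 ≫ M := by
  let img : ∀ U : X.affineOpens, Spec Γ(X, U.1) ⟶ X := fun U =>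
    letI := secAlg f U
    (Φ Γ(X, U.1) (secPt f U)).1
  have hcompat : ∀ {U V : X.affineOpens} (hUV : U.1 ≤ V.1), Spec.map (X.presheaf.map (homOfLE hUV).op) ≫ img V = img U := by
    intro U V hUV
    letI := secAlg f U
    letI := secAlg f V
    let res := (X.presheaf.map (homOfLE hUV).op).hom
    have hres : Spec.map (CommRingCat.ofHom res) ≫ V.2.fromSpec = U.2.fromSpec := by
      simp only [res, CommRingCat.ofHom_hom]
      exact V.2.map_fromSpec U.2 _
    have hc : res.comp (algebraMap k Γ(X, V.1)) = algebraMap k Γ(X, U.1) :=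
      algebraMap_comp_of_spec res (secPt f V).1 f (secPt f V).2 (by
        show (Spec.map (CommRingCat.ofHom res) ≫ V.2.fromSpec) ≫ f = _
        rw [hres]
        exact (secPt f U).2)
    let φ : Γ(X, V.1) →ₐ[k] Γ(X, U.1) := { res with commutes' := fun a => RingHom.congr_fun hc a }
    have hpt : BrSev.Pts.map f φ (secPt f V) = secPt f U := Subtype.ext hres
    have := hΦ _ _ φ (secPt f V)
    rw [hpt] at this
    exact (congrArg Subtype.val this).symm
  have hglue : ∀ {U V : X.affineOpens} (hle : U.1 ≤ V.1),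
      X.homOfLE hle ≫ V.2.isoSpec.hom ≫ img V = U.2.isoSpec.hom ≫ img U := by
    intro U V hle
    have hUa : IsAffineOpen U.1 := U.2
    have hVa : IsAffineOpen V.1 := V.2
    have htrans : X.homOfLE hle ≫ hVa.isoSpec.hom =
        hUa.isoSpec.hom ≫ Spec.map (X.presheaf.map (homOfLE hle).op) := by
      haveI := hVa.isOpenImmersion_fromSpec
      rw [← cancel_mono hVa.fromSpec, Category.assoc, Category.assoc,
        IsAffineOpen.map_fromSpec _ hUa, IsAffineOpen.isoSpec_hom_fromSpec,
        IsAffineOpen.isoSpec_hom_fromSpec, Scheme.homOfLE_ι]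
    exact (Category.assoc _ _ _).symm.trans ((congrArg (· ≫ img V) htrans).trans
      ((Category.assoc _ _ _).trans (congrArg (hUa.isoSpec.hom ≫ ·) (hcompat hle))))
  let G : ∀ U : X.affineOpens, X.directedAffineCover.X U ⟶ X := fun U => U.2.isoSpec.hom ≫ img U
  have hG : ∀ {U V : X.directedAffineCover.I₀} (hUV : U ⟶ V),
      X.directedAffineCover.trans hUV ≫ G V = G U := fun hUV => hglue (leOfHom hUV)
  let M : X ⟶ X := X.directedAffineCover.glueMorphismsOfLocallyDirected G hG
  have hM : ∀ U : X.affineOpens, U.2.fromSpec ≫ M = img U := fun U => by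
    have hUa : IsAffineOpen U.1 := U.2
    have h : U.1.ι ≫ M = hUa.isoSpec.hom ≫ img U :=
      X.directedAffineCover.map_glueMorphismsOfLocallyDirected G hG U
    show (hUa.isoSpec.inv ≫ U.1.ι) ≫ M = _
    rw [Category.assoc, h, Iso.inv_hom_id_assoc]
  have key : ∀ (R : Type u) [CommRing R] [Algebra k R] (g : BrSev.Pts f R), (Φ R g).1 = g.1 ≫ M := fun R _ _ g => by
    refine spec_hom_ext fun x => ?_
    obtain ⟨r, hxr, U, φ, hφ⟩ := pts_factor g x
    refine ⟨r, hxr, ?_⟩
    letI := secAlg f U
    have h1 := hΦ _ _ φ (secPt f U)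
    rw [hφ, hΦ] at h1
    have h2 : Spec.map (CommRingCat.ofHom (algebraMap R (Localization.Away r))) ≫ g.1 =
        Spec.map (CommRingCat.ofHom (φ : Γ(X, U.1) →+* Localization.Away r)) ≫ U.2.fromSpec :=
      (congrArg Subtype.val hφ).symm
    refine (congrArg Subtype.val h1).trans ?_
    rw [← Category.assoc, h2, Category.assoc, hM]
    rfl
  refine ⟨M, hom_eq_of_pts (f := f) fun R _ _ g => ?_, key⟩
  rw [← Category.assoc, ← key R g, g.2, (Φ R g).2]

end Groth.Agent.H02CA.SB
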