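import Groth.Agent.H02CA.SB.Ideals
import Groth.Agent.H02CA.SB.AffineYoneda
import Groth.Agent.H29CSA.Split

/-!
# The automorphism group of a Severi–Brauer variety
-/

set_option autoImplicit false

universe u

open CategoryTheory AlgebraicGeometry TensorProduct

namespace Groth.Agent.H02CA.SB

variable {k : Type u} [Field k] {A : Type u} [Ring A] [Algebra k A] {c : ℕ} {X : Scheme.{u}}
  {f : X ⟶ Spec (CommRingCat.of k)} (str : BrSev.SBStr k A c f)

/-- A point composed with an endomorphism over the base. -/
noncomputable def compPt (M : X ⟶ X) (hM : M ≫ f = f) {R : Type u} [CommRing R] [Algebra k R]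
    (g : BrSev.Pts f R) : BrSev.Pts f R :=
  ⟨g.1 ≫ M, by rw [Category.assoc, hM, g.2]⟩

lemma bij_map {R S : Type u} [CommRing R] [Algebra k R] [CommRing S] [Algebra k S] (φ : R →ₐ[k] S)
    (g : BrSev.Pts f R) : str.bij S (BrSev.Pts.map f φ g) = mapSB φ (str.bij R g) :=
  ideal_ext (str.natural R S φ g)

theorem exists_translation (a : Aˣ) : ∃ M : X ⟶ X, ∃ hM : M ≫ f = f,
    ∀ (R : Type u) [CommRing R] [Algebra k R] (g : BrSev.Pts f R),
      str.bij R (compPt M hM g) = rightMul (oneTmul R a) (str.bij R g) := by
  let Φ : ∀ (R : Type u) [CommRing R] [Algebra k R], BrSev.Pts f R → BrSev.Pts f R := fun R _ _ g =>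
    (str.bij R).symm (rightMul (oneTmul R a) (str.bij R g))
  obtain ⟨M, hM, hpts⟩ := exists_hom Φ fun R S _ _ _ _ φ g => by
    apply (str.bij S).injective
    simp only [Φ, Equiv.apply_symm_apply, bij_map, mapSB_rightMul, mapA_oneTmul]
  refine ⟨M, hM, fun R _ _ g => ?_⟩
  rw [show compPt M hM g = Φ R g from Subtype.ext (hpts R g).symm]
  simp only [Φ, Equiv.apply_symm_apply]

/-- Translation by a unit. -/
noncomputable def transl (a : Aˣ) : X ⟶ X := (exists_translation str a).choose

lemma transl_comp (a : Aˣ) : transl str a ≫ f = f := (exists_translation str a).choose_spec.choose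

lemma bij_transl (a : Aˣ) (R : Type u) [CommRing R] [Algebra k R] (g : BrSev.Pts f R) :
    str.bij R (compPt (transl str a) (transl_comp str a) g) = rightMul (oneTmul R a) (str.bij R g) :=
  (exists_translation str a).choose_spec.choose_spec R g

include str in
lemma hom_ext_of_bij {M M' : X ⟶ X} (hM : M ≫ f = f) (hM' : M' ≫ f = f)
    (h : ∀ (R : Type u) [CommRing R] [Algebra k R] (g : BrSev.Pts f R),
      str.bij R (compPt M hM g) = str.bij R (compPt M' hM' g)) : M = M' :=
  hom_eq_of_pts (f := f) fun R _ _ g => congrArg Subtype.val ((str.bij R).injective (h R g))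

lemma transl_mul (a b : Aˣ) : transl str (a * b) = transl str a ≫ transl str b := by
  refine hom_ext_of_bij str (transl_comp str _) (by rw [Category.assoc, transl_comp, transl_comp]) fun R _ _ g => ?_
  have : compPt (transl str a ≫ transl str b) (by rw [Category.assoc, transl_comp, transl_comp]) g =
      compPt (transl str b) (transl_comp str b) (compPt (transl str a) (transl_comp str a) g) :=
    Subtype.ext (Category.assoc _ _ _).symm
  rw [this, bij_transl, bij_transl, bij_transl, rightMul_mul, map_mul]

lemma transl_one : transl str 1 = 𝟙 X := by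
  refine hom_ext_of_bij str (transl_comp str _) (Category.id_comp f) fun R _ _ g => ?_
  rw [bij_transl, map_one, rightMul_one]
  exact congrArg (str.bij R) (Subtype.ext (Category.comp_id _).symm)

/-- Translation as an automorphism. -/
noncomputable def autOf (u : Aˣ) : Aut (Over.mk f) where
  hom := Over.homMk (transl str u⁻¹) (transl_comp str _)
  inv := Over.homMk (transl str u) (transl_comp str _)
  hom_inv_id := by
    ext
    show transl str u⁻¹ ≫ transl str u = 𝟙 X
    rw [← transl_mul, inv_mul_cancel, transl_one]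
  inv_hom_id := by
    ext
    show transl str u ≫ transl str u⁻¹ = 𝟙 X
    rw [← transl_mul, mul_inv_cancel, transl_one]

/-- The action of units on a Severi–Brauer variety. -/
noncomputable def xi : Aˣ →* Aut (Over.mk f) :=
  MonoidHom.mk' (autOf str) fun u v => by
    refine Iso.ext (Over.OverMorphism.ext ?_)
    show transl str (u * v)⁻¹ = transl str v⁻¹ ≫ transl str u⁻¹
    rw [← transl_mul, mul_inv_rev]

lemma rightMul_algebraMap (t : kˣ) (R : Type u) [CommRing R] [Algebra k R] (N : BrSev.SBSet k A c R) :
    rightMul (oneTmul R (Units.map (algebraMap k A : k →* A) t)) N = N := by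
  have h : ∀ y : R ⊗[k] A, y * ((1 : R) ⊗ₜ[k] algebraMap k A t) = (algebraMap k R t) • y := fun y => by
    induction y using TensorProduct.induction_on with
    | zero => simp
    | add y z hy hz => rw [add_mul, hy, hz, smul_add]
    | tmul r b =>
      rw [Algebra.TensorProduct.tmul_mul_tmul, mul_one, TensorProduct.smul_tmul', smul_eq_mul, ← Algebra.commutes,
        ← Algebra.smul_def, TensorProduct.tmul_smul, TensorProduct.smul_tmul', Algebra.smul_def]
  refine ideal_ext (Submodule.ext fun x => ?_)
  simp only [mem_rightMul, coe_oneTmul, Units.coe_map, MonoidHom.coe_coe, h]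
  constructor
  · rintro ⟨y, hy, rfl⟩
    exact N.1.toSubmodule.smul_mem _ hy
  · intro hx
    refine ⟨algebraMap k R (↑t⁻¹ : k) • x, N.1.toSubmodule.smul_mem _ hx, ?_⟩
    rw [smul_smul, ← map_mul, Units.mul_inv, map_one, one_smul]

section Main

variable {n : ℕ}

theorem exists_surjective_units_to_aut [Algebra.IsCentral k A] [IsSimpleRing A] (hn : 0 < n)
    (hA : Module.finrank k A = n * n) (str : BrSev.SBStr k A (n * n - n) f) :
    ∃ ξ : Aˣ →* Aut (Over.mk f), Function.Surjective ξ ∧
      ξ.ker = (Units.map (algebraMap k A : k →* A)).range := by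
  haveI : NeZero n := ⟨hn.ne'⟩
  haveI : Module.Finite k A := Module.finite_of_finrank_pos (by rw [hA]; positivity)
  let F := AlgebraicClosure k
  obtain ⟨m, -, ⟨e₀⟩⟩ := Groth.Agent.H29CSA.exists_splits_of_isAlgClosed (k := k) A F
  obtain rfl : m = n := by
    have := (Groth.Agent.H29CSA.finrank_eq_sq_of_splits A F e₀).symm.trans hA
    exact Nat.pow_left_injective two_ne_zero (this.trans (sq n).symm)
  refine ⟨xi str, ?_, ?_⟩
  · intro σ
    have hσf : σ.hom.left ≫ f = f := Over.w σ.hom
    have hσf' : σ.inv.left ≫ f = f := Over.w σ.inv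
    have hid : σ.hom.left ≫ σ.inv.left = 𝟙 X := congrArg CommaMorphism.left σ.hom_inv_id
    have hid' : σ.inv.left ≫ σ.hom.left = 𝟙 X := congrArg CommaMorphism.left σ.inv_hom_id
    let E : ∀ (R : Type u) [CommRing R] [Algebra k R], BrSev.Pts f R ≃ BrSev.Pts f R := fun R _ _ =>
      { toFun := compPt σ.hom.left hσf
        invFun := compPt σ.inv.left hσf'
        left_inv := fun g => Subtype.ext (by simp [compPt, Category.assoc, hid])
        right_inv := fun g => Subtype.ext (by simp [compPt, Category.assoc, hid']) }
    obtain ⟨a, ha⟩ := exists_rightMul e₀ (fun R _ _ => (str.bij R).symm.trans ((E R).trans (str.bij R)))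
      fun R S _ _ _ _ φ N => by
        obtain ⟨g, rfl⟩ := (str.bij R).surjective N
        rw [← bij_map]
        simp only [Equiv.trans_apply, Equiv.symm_apply_apply]
        rw [← bij_map]
        exact congrArg _ (Subtype.ext (Category.assoc _ _ _))
    refine ⟨a⁻¹, Iso.ext (Over.OverMorphism.ext ?_)⟩
    show transl str a⁻¹⁻¹ = σ.hom.left
    rw [inv_inv]
    refine hom_ext_of_bij str (transl_comp str a) hσf fun R _ _ g => ?_
    rw [bij_transl, ← ha R (str.bij R g)]
    simp only [Equiv.trans_apply, Equiv.symm_apply_apply]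
    rfl
  · ext u
    rw [MonoidHom.mem_ker, MonoidHom.mem_range]
    constructor
    · intro h
      have h1 : transl str u⁻¹ = 𝟙 X :=
        congrArg (fun g : Aut (Over.mk f) => g.hom.left) h
      have h2 : ∀ N, rightMul (oneTmul F u⁻¹) N = N := fun N => by
        obtain ⟨g, rfl⟩ := (str.bij F).surjective N
        rw [← bij_transl]
        exact congrArg _ (Subtype.ext (by simp [compPt, h1]))
      obtain ⟨t, ht⟩ := mem_range_of_rightMul_eq e₀ u⁻¹ h2
      haveI : Nontrivial A := inferInstance
      have ht0 : t ≠ 0 := fun h0 => (u⁻¹).ne_zero (by rw [← ht, h0, map_zero])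
      refine ⟨(Units.mk0 t ht0)⁻¹, ?_⟩
      rw [map_inv, inv_eq_iff_eq_inv]
      exact Units.ext ht
    · rintro ⟨t, rfl⟩
      refine Iso.ext (Over.OverMorphism.ext ?_)
      show transl str _ = 𝟙 X
      refine hom_ext_of_bij str (transl_comp str _) (Category.id_comp f) fun R _ _ g => ?_
      rw [bij_transl, ← map_inv, rightMul_algebraMap]
      exact congrArg (str.bij R) (Subtype.ext (Category.comp_id _).symm)

end Main

end Groth.Agent.H02CA.SB
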