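import Groth.Agent.H02CA.SB.LineBasics

/-!
# Natural automorphisms of the functor of lines in `n`-space are linear
-/

set_option autoImplicit false

universe u

open MvPolynomial Matrix

namespace Groth.Agent.H02CA.SB

section Primitive

variable {R : Type*} [CommRing R] {n : ℕ}

/-- Only units divide all coordinates. -/
def Primitive (P : Fin n → R) : Prop := ∀ c, (∀ j, c ∣ P j) → IsUnit c

variable [IsDomain R]

lemma Primitive.exists_ne_zero {P : Fin n → R} (hP : Primitive P) : ∃ j, P j ≠ 0 := by
  by_contra h
  push Not at h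
  exact not_isUnit_zero (hP 0 fun j => by rw [h j])

variable [UniqueFactorizationMonoid R]

lemma Primitive.exists_eq_smul {P Q : Fin n → R} (hP : Primitive P) (h : ∀ a b, P a * Q b = P b * Q a) :
    ∃ c : R, Q = c • P := by
  obtain ⟨j, hj⟩ := hP.exists_ne_zero
  obtain ⟨b', a', c', hrel, hb', ha'⟩ := UniqueFactorizationMonoid.exists_reduced_factors (P j) hj (Q j)
  have hc' : c' ≠ 0 := by rintro rfl; exact hj (by rw [← hb', zero_mul])
  have key : ∀ l, b' * Q l = a' * P l := fun l => by
    apply mul_left_cancel₀ hc'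
    have := h j l
    rw [← hb', ← ha'] at this
    linear_combination this
  have hb : IsUnit b' := hP b' fun l => hrel.dvd_of_dvd_mul_left ⟨Q l, (key l).symm⟩
  obtain ⟨u, rfl⟩ := hb
  refine ⟨↑u⁻¹ * a', funext fun l => ?_⟩
  rw [Pi.smul_apply, smul_eq_mul, mul_assoc, ← key l, ← mul_assoc, Units.inv_mul, one_mul]

lemma exists_primitive {W : Fin n → R} {j : Fin n} (hW : W j ≠ 0) :
    ∃ (c : R) (P : Fin n → R), c ≠ 0 ∧ W = c • P ∧ Primitive P := by
  classical
  suffices H : ∀ x, ∀ W : Fin n → R, W j = x → W j ≠ 0 → ∃ (c : R) (P : Fin n → R), c ≠ 0 ∧ W = c • P ∧ Primitive P from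
    H _ W rfl hW
  intro x
  induction x using (wellFounded_dvdNotUnit (α := R)).induction with
  | _ x ih =>
    intro W hx hW
    by_cases hp : Primitive W
    · exact ⟨1, W, one_ne_zero, (one_smul _ _).symm, hp⟩
    · simp only [Primitive, not_forall] at hp
      obtain ⟨d, hd, hdu⟩ := hp
      choose V hV using hd
      have hd0 : d ≠ 0 := by rintro rfl; exact hW (by rw [hV j, zero_mul])
      have hVj : V j ≠ 0 := fun h0 => hW (by rw [hV j, h0, mul_zero])
      obtain ⟨c, P, hc, hVP, hP⟩ := ih (V j) (⟨hVj, d, hdu, by rw [← hx, hV j, mul_comm]⟩) V rfl hVj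
      refine ⟨d * c, P, mul_ne_zero hd0 hc, funext fun l => ?_, hP⟩
      rw [hV l, hVP, Pi.smul_apply, Pi.smul_apply, smul_eq_mul, smul_eq_mul, mul_assoc]

end Primitive

lemma primitive_X (F : Type*) [Field F] {n : ℕ} (hn : 2 ≤ n) :
    Primitive (fun j : Fin n => (X j : MvPolynomial (Fin n) F)) := by
  intro c hc
  let i : Fin n := ⟨0, by omega⟩
  let j : Fin n := ⟨1, by omega⟩
  have hir : Irreducible (X i : MvPolynomial (Fin n) F) := (MvPolynomial.X_prime (R := F)).irreducible
  obtain ⟨d, hd⟩ := hc i
  rcases hir.isUnit_or_isUnit hd with h | h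
  · exact h
  · exfalso
    obtain ⟨e, he⟩ := hc j
    simp only [] at hd he
    have hdvd : (X i : MvPolynomial (Fin n) F) ∣ X j := by
      obtain ⟨u, rfl⟩ := h
      exact ⟨↑u⁻¹ * e, by rw [hd, ← mul_assoc, mul_assoc c, Units.mul_inv, mul_one, he]⟩
    obtain ⟨w, hw⟩ := hdvd
    have := congrArg (MvPolynomial.eval (fun l : Fin n => if l = i then (0 : F) else 1)) hw
    simp [show j ≠ i from fun h => by simp [i, j, Fin.ext_iff] at h] at this

lemma eval_aeval_poly {F : Type*} [CommRing F] {σ : Type*} (f : σ → Polynomial F) (H : MvPolynomial σ F) (s : F) :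
    (aeval f H).eval s = MvPolynomial.eval (fun b => (f b).eval s) H := by
  induction H using MvPolynomial.induction_on with
  | C c => simp
  | add p q hp hq => simp [hp, hq]
  | mul_X p i hp => simp [hp]

lemma coeff_zero_aeval_line {F : Type*} [CommRing F] {σ : Type*} (a : σ → F) (H : MvPolynomial σ F) :
    (aeval (fun b => Polynomial.C (a b) * Polynomial.X) H).coeff 0 = constantCoeff H := by
  induction H using MvPolynomial.induction_on with
  | C c => simp
  | add p q hp hq => simp [hp, hq]
  | mul_X p i hp => simp [Polynomial.mul_coeff_zero]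

lemma coeff_one_aeval_line {F : Type*} [CommRing F] {σ : Type*} [Fintype σ] [DecidableEq σ] (a : σ → F)
    (H : MvPolynomial σ F) :
    (aeval (fun b => Polynomial.C (a b) * Polynomial.X) H).coeff 1 = ∑ b, H.coeff (Finsupp.single b 1) * a b := by
  induction H using MvPolynomial.induction_on with
  | C c =>
    simp [MvPolynomial.coeff_C, eq_comm (a := (0 : σ →₀ ℕ))]
  | add p q hp hq => simp [hp, hq, add_mul, Finset.sum_add_distrib]
  | mul_X p i hp =>
    have hc : ∀ b, (p * X i).coeff (Finsupp.single b 1) = if b = i then constantCoeff p else 0 := by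
      intro b
      rw [MvPolynomial.coeff_mul_X']
      by_cases hb : b = i
      · subst hb
        rw [if_pos (by simp), if_pos rfl, tsub_self, constantCoeff_eq]
      · rw [if_neg (by simp [Finsupp.single_apply, hb, Ne.symm hb]), if_neg hb]
    simp only [map_mul, MvPolynomial.aeval_X, hc, ite_mul, zero_mul, Finset.sum_ite_eq', Finset.mem_univ, if_true]
    rw [← mul_assoc, Polynomial.coeff_mul_X, Polynomial.coeff_mul_C, coeff_zero_aeval_line]

section Core

variable {k F : Type u} [Field k] [Field F] [Algebra k F] {n : ℕ}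

/-- Evaluate a vector of polynomials. -/
noncomputable def evalV {R : Type u} [CommRing R] [Algebra k R] (τ : F →ₐ[k] R) (v : Fin n → R)
    (P : Fin n → MvPolynomial (Fin n) F) : Fin n → R :=
  fun j => MvPolynomial.eval₂ (τ : F →+* R) v (P j)

/-- A family of maps of submodules of `R ^ n`, one for each `k`-algebra with a map from `F`. -/
abbrev Fam (k F : Type u) [Field k] [Field F] [Algebra k F] (n : ℕ) :=
  ∀ (R : Type u) [CommRing R] [Algebra k R], (F →ₐ[k] R) → Submodule R (Fin n → R) → Submodule R (Fin n → R)

/-- Lines go to lines, naturally. -/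
structure Fam.IsNatural (η : Fam k F n) : Prop where
  isLine : ∀ (R : Type u) [CommRing R] [Algebra k R] (τ : F →ₐ[k] R) (L : Submodule R (Fin n → R)),
    IsLine L → IsLine (η R τ L)
  natural : ∀ (R S : Type u) [CommRing R] [Algebra k R] [CommRing S] [Algebra k S] (φ : R →ₐ[k] S)
    (τ : F →ₐ[k] R) (L : Submodule R (Fin n → R)),
    IsLine L → η S (φ.comp τ) (mapL φ.toRingHom L) = mapL φ.toRingHom (η R τ L)

theorem exists_polys {η : Fam k F n} (hη : η.IsNatural) (hn : 1 ≤ n) :
    ∃ P : Fin n → MvPolynomial (Fin n) F, Primitive P ∧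
      ∀ (R : Type u) [CommRing R] [Algebra k R] (τ : F →ₐ[k] R) (v : Fin n → R) (i : Fin n), IsUnit (v i) →
        η R τ (Submodule.span R {v}) = Submodule.span R {evalV τ v P} := by
  classical
  let Poly := MvPolynomial (Fin n) F
  let K := FractionRing Poly
  let i₀ : Fin n := ⟨0, by omega⟩
  let τK : F →ₐ[k] K := IsScalarTower.toAlgHom k F K
  let xK : Fin n → K := fun j => algebraMap Poly K (X j)
  have hxK : ∀ j, IsUnit (xK j) := fun j =>
    ((map_ne_zero_iff _ (IsFractionRing.injective Poly K)).mpr (MvPolynomial.X_ne_zero j)).isUnit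
  have hLK := hη.isLine K τK _ (isLine_span (hxK i₀))
  obtain ⟨w, j₀, hw, hgen⟩ := hLK.exists_generator hn
  obtain ⟨s, hs⟩ := IsLocalization.exist_integer_multiples (nonZeroDivisors Poly) Finset.univ w
  choose W hW using fun j => hs j (Finset.mem_univ j)
  have hs0 : algebraMap Poly K s ≠ 0 :=
    (map_ne_zero_iff _ (IsFractionRing.injective Poly K)).mpr (nonZeroDivisors.coe_ne_zero s)
  have hWj : W j₀ ≠ 0 := by
    intro h0
    have := hW j₀
    rw [h0, map_zero, Algebra.smul_def, eq_comm, mul_eq_zero] at this
    exact this.elim hs0 hw.ne_zero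
  obtain ⟨c, P, hc, hWP, hP⟩ := exists_primitive hWj
  have hPw : (algebraMap Poly K c) • (algebraMap Poly K ∘ P) = (algebraMap Poly K s) • w := funext fun j => by
    have := hW j
    rw [hWP, Pi.smul_apply, smul_eq_mul, map_mul, Algebra.smul_def] at this
    exact this
  have hc0 : algebraMap Poly K c ≠ 0 := (map_ne_zero_iff _ (IsFractionRing.injective Poly K)).mpr hc
  have hspan : η K τK (Submodule.span K {xK}) = Submodule.span K {algebraMap Poly K ∘ P} := by
    rw [hgen, ← Submodule.span_singleton_smul_eq hs0.isUnit w, ← hPw, Submodule.span_singleton_smul_eq hc0.isUnit]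
  have hkey : ∀ Z : Fin n → Poly, algebraMap Poly K ∘ Z ∈ η K τK (Submodule.span K {xK}) → ∃ d : Poly, Z = d • P := by
    intro Z hZ
    rw [hspan, Submodule.mem_span_singleton] at hZ
    obtain ⟨t, ht⟩ := hZ
    refine hP.exists_eq_smul fun a b => IsFractionRing.injective Poly K ?_
    have ha : t * algebraMap Poly K (P a) = algebraMap Poly K (Z a) := congrFun ht a
    have hb : t * algebraMap Poly K (P b) = algebraMap Poly K (Z b) := congrFun ht b
    rw [map_mul, map_mul, ← ha, ← hb]
    ring
  refine ⟨P, hP, fun R _ _ τ v i hv => ?_⟩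
  let B := Localization.Away (X i : Poly)
  let τB : F →ₐ[k] B := IsScalarTower.toAlgHom k F B
  let xB : Fin n → B := fun j => algebraMap Poly B (X j)
  have hxB : IsUnit (xB i) := IsLocalization.Away.algebraMap_isUnit (X i : Poly)
  let ι : B →ₐ[k] K :=
    { IsLocalization.Away.lift (X i : Poly) (g := algebraMap Poly K) (hxK i) with
      commutes' := fun a => by
        show IsLocalization.Away.lift (X i : Poly) (g := algebraMap Poly K) (hxK i) (algebraMap k B a) = _
        rw [IsScalarTower.algebraMap_apply k Poly B, IsLocalization.Away.lift_eq, ← IsScalarTower.algebraMap_apply] }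
  have hι : ∀ z, ι (algebraMap Poly B z) = algebraMap Poly K z := fun z => IsLocalization.Away.lift_eq (X i : Poly) (g := algebraMap Poly K) (hxK i) z
  have hιτ : ι.comp τB = τK := AlgHom.ext fun a => by
    show ι (algebraMap F B a) = algebraMap F K a
    rw [IsScalarTower.algebraMap_apply F Poly B, hι, ← IsScalarTower.algebraMap_apply]
  have hιx : ι.toRingHom ∘ xB = xK := funext fun j => hι _
  have hle : Submonoid.powers (X i : Poly) ≤ nonZeroDivisors Poly :=
    powers_le_nonZeroDivisors_of_noZeroDivisors (MvPolynomial.X_ne_zero i)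
  haveI : IsDomain B := IsLocalization.isDomain_localization hle
  have hmapB : mapL ι.toRingHom (η B τB (Submodule.span B {xB})) = η K τK (Submodule.span K {xK}) := by
    rw [← hη.natural B K ι τB _ (isLine_span hxB), hιτ, mapL_span_singleton, hιx]
  have hL := hη.isLine B τB _ (isLine_span hxB)
  have hBL : η B τB (Submodule.span B {xB}) = Submodule.span B {algebraMap Poly B ∘ P} := by
    have hmul : ∀ z ∈ η B τB (Submodule.span B {xB}), ∃ (d : Poly) (s : Submonoid.powers (X i : Poly)),
        algebraMap Poly B s • z = algebraMap Poly B d • (algebraMap Poly B ∘ P) := by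
      intro z hz
      obtain ⟨s', hs'⟩ := IsLocalization.exist_integer_multiples (Submonoid.powers (X i : Poly)) Finset.univ z
      choose Z hZ using fun j => hs' j (Finset.mem_univ j)
      have hZ' : algebraMap Poly B ∘ Z = algebraMap Poly B s' • z := funext fun j => by
        rw [Function.comp_apply, hZ j, Algebra.smul_def, Pi.smul_apply, smul_eq_mul]
      have hmem : algebraMap Poly K ∘ Z ∈ η K τK (Submodule.span K {xK}) := by
        rw [← hmapB]
        have h1 := mem_mapL ι.toRingHom ((η B τB (Submodule.span B {xB})).smul_mem (algebraMap Poly B s') hz)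
        rw [← hZ'] at h1
        convert h1 using 1
        exact funext fun j => (hι _).symm
      obtain ⟨d, rfl⟩ := hkey Z hmem
      exact ⟨d, s', hZ'.symm.trans (funext fun j => by simp)⟩
    apply le_antisymm
    · intro z hz
      obtain ⟨d, s', h⟩ := hmul z hz
      obtain ⟨u, hu⟩ := IsLocalization.map_units B s'
      rw [← hu] at h
      refine Submodule.mem_span_singleton.mpr ⟨↑u⁻¹ * algebraMap Poly B d, ?_⟩
      rw [mul_smul, ← h, smul_smul, Units.inv_mul, one_smul]
    · obtain ⟨z, hz, hz0⟩ : ∃ z ∈ η B τB (Submodule.span B {xB}), z ≠ 0 := by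
        refine Submodule.exists_mem_ne_zero_of_ne_bot fun hbot => ?_
        rw [hbot, hgen, mapL, Submodule.bot_coe, Set.image_singleton] at hmapB
        have h1 : (Submodule.span K {w}) = ⊥ := by
          rw [← hmapB, Submodule.span_singleton_eq_bot]
          exact funext fun j => map_zero _
        rw [Submodule.span_singleton_eq_bot] at h1
        exact hw.ne_zero (congrFun h1 j₀)
      obtain ⟨d, s', h⟩ := hmul z hz
      refine Submodule.span_le.mpr (Set.singleton_subset_iff.mpr (hL.saturated (c := algebraMap Poly B d) ?_ ?_))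
      · intro hd
        rw [hd, zero_smul, smul_eq_zero] at h
        exact h.elim (IsLocalization.map_units B s').ne_zero hz0
      · exact h ▸ Submodule.smul_mem _ _ hz
  let g : Poly →+* R := MvPolynomial.eval₂Hom (τ : F →+* R) v
  have hgX : ∀ j, g (X j) = v j := fun j => MvPolynomial.eval₂Hom_X' _ _ j
  have hgC : ∀ a, g (C a) = τ a := fun a => MvPolynomial.eval₂Hom_C _ _ a
  have hg : IsUnit (g (X i)) := (hgX i).symm ▸ hv
  let φ : B →ₐ[k] R :=
    { IsLocalization.Away.lift (X i : Poly) (g := g) hg with
      commutes' := fun a => by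
        show IsLocalization.Away.lift (X i : Poly) (g := g) hg (algebraMap k B a) = _
        rw [IsScalarTower.algebraMap_apply k Poly B, IsLocalization.Away.lift_eq, IsScalarTower.algebraMap_apply k F Poly,
          MvPolynomial.algebraMap_eq, hgC, AlgHom.commutes] }
  have hφ : ∀ z, φ (algebraMap Poly B z) = g z := fun z => IsLocalization.Away.lift_eq (X i : Poly) (g := g) hg z
  have hφτ : φ.comp τB = τ := AlgHom.ext fun a => by
    show φ (algebraMap F B a) = τ a
    rw [IsScalarTower.algebraMap_apply F Poly B, hφ, MvPolynomial.algebraMap_eq, hgC]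
  have hφx : φ.toRingHom ∘ xB = v := funext fun j => (hφ _).trans (hgX j)
  have h := hη.natural B R φ τB _ (isLine_span hxB)
  rw [hφτ, mapL_span_singleton, hφx, hBL, mapL_span_singleton] at h
  rw [h]
  congr 2
  exact funext fun j => hφ _

lemma eval_ne_zero {η : Fam k F n} (hη : η.IsNatural) (hn : 1 ≤ n) {P : Fin n → MvPolynomial (Fin n) F}
    (hP : ∀ (R : Type u) [CommRing R] [Algebra k R] (τ : F →ₐ[k] R) (v : Fin n → R) (i : Fin n), IsUnit (v i) →
      η R τ (Submodule.span R {v}) = Submodule.span R {evalV τ v P}) {a : Fin n → F} (ha : a ≠ 0) :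
    (fun j => eval a (P j)) ≠ 0 := by
  obtain ⟨i, hi⟩ := Function.ne_iff.mp ha
  have hL := hη.isLine F (AlgHom.id k F) _ (isLine_span (isUnit_iff_ne_zero.mpr hi : IsUnit (a i)))
  rw [hP F _ a i (isUnit_iff_ne_zero.mpr hi)] at hL
  obtain ⟨w, j, hw, he⟩ := hL.exists_generator hn
  intro h0
  have h1 : evalV (AlgHom.id k F) a P = 0 := funext fun l => congrFun h0 l
  rw [h1, Submodule.span_zero_singleton, eq_comm, Submodule.span_singleton_eq_bot] at he
  exact hw.ne_zero (congrFun he j)

/-- A polynomial without zeros away from the origin is constant. -/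
lemma eval_const [IsAlgClosed F] (hn : 2 ≤ n) {h : MvPolynomial (Fin n) F} (hne : ∀ a, a ≠ 0 → eval a h ≠ 0)
    {a c : Fin n → F} (ha : a ≠ 0) (hc : c ≠ 0) : eval a h = eval c h := by
  classical
  have key : ∀ a c : Fin n → F, a ≠ 0 → (∃ j l, a j * c l ≠ a l * c j) → eval a h = eval c h := by
    intro a c ha hind
    let q : Polynomial F := aeval (fun j => Polynomial.C (a j) + Polynomial.C (c j - a j) * Polynomial.X) h
    have hq : ∀ s, q.eval s = eval (fun j => a j + (c j - a j) * s) h := fun s => by
      simp [q, eval_aeval_poly]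
    have hq0 : q.degree ≤ 0 := by
      by_contra hdeg
      obtain ⟨s, hs⟩ := IsAlgClosed.exists_root q (fun h0 => hdeg h0.le)
      rw [Polynomial.IsRoot.def, hq] at hs
      refine hne _ (fun hz => ?_) hs
      obtain ⟨j, l, hjl⟩ := hind
      have ej : a j + (c j - a j) * s = 0 := congrFun hz j
      have el : a l + (c l - a l) * s = 0 := congrFun hz l
      have hs0 : s ≠ 0 := by
        rintro rfl
        apply ha
        funext b
        have := congrFun hz b
        simpa using this
      apply hjl
      apply mul_left_cancel₀ hs0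
      linear_combination a j * el - a l * ej
    have := hq 0
    rw [Polynomial.eq_C_of_degree_le_zero hq0] at this hq
    have h1 := hq 1
    simp only [Polynomial.eval_C, mul_zero, add_zero, mul_one, add_sub_cancel] at this h1
    exact this.symm.trans h1
  by_cases hind : ∃ j l, a j * c l ≠ a l * c j
  · exact key a c ha hind
  · push Not at hind
    obtain ⟨i, hi⟩ := Function.ne_iff.mp ha
    obtain ⟨j, hj⟩ := Fintype.exists_ne_of_one_lt_card (by simp; omega) i
    have hci : c i ≠ 0 := fun h0 => hc (funext fun b => by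
      have := hind i b
      rw [h0, mul_zero, mul_eq_zero] at this
      exact this.resolve_left hi)
    have he : (Pi.single j 1 : Fin n → F) ≠ 0 := by
      simp
    rw [key a (Pi.single j 1) ha ⟨i, j, by simpa [Pi.single_apply, hj.symm] using hi⟩,
      key c (Pi.single j 1) hc ⟨i, j, by simpa [Pi.single_apply, hj.symm] using hci⟩]

lemma eq_C_of_eval [Infinite F] (hn : 1 ≤ n) {h : MvPolynomial (Fin n) F} {c : F}
    (hh : ∀ a, a ≠ 0 → eval a h = c) : h = C c := by
  have : X (⟨0, hn⟩ : Fin n) * (h - C c) = 0 := MvPolynomial.funext fun a => by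
    rw [map_zero, map_mul, map_sub, eval_X, eval_C]
    rcases eq_or_ne a 0 with rfl | ha
    · simp
    · rw [hh a ha, sub_self, mul_zero]
  exact sub_eq_zero.mp ((mul_eq_zero.mp this).resolve_left (MvPolynomial.X_ne_zero _))

theorem exists_comp_eq {η η' : Fam k F n} (hη : η.IsNatural) (hη' : η'.IsNatural) (hn : 2 ≤ n) [IsAlgClosed F]
    (hinv : ∀ (R : Type u) [CommRing R] [Algebra k R] (τ : F →ₐ[k] R) (L : Submodule R (Fin n → R)),
      IsLine L → η' R τ (η R τ L) = L)
    {P Q : Fin n → MvPolynomial (Fin n) F} (hPp : Primitive P)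
    (hP : ∀ (R : Type u) [CommRing R] [Algebra k R] (τ : F →ₐ[k] R) (v : Fin n → R) (i : Fin n), IsUnit (v i) →
      η R τ (Submodule.span R {v}) = Submodule.span R {evalV τ v P})
    (hQ : ∀ (R : Type u) [CommRing R] [Algebra k R] (τ : F →ₐ[k] R) (v : Fin n → R) (i : Fin n), IsUnit (v i) →
      η' R τ (Submodule.span R {v}) = Submodule.span R {evalV τ v Q}) :
    ∃ c : F, c ≠ 0 ∧ ∀ j, bind₁ P (Q j) = C c * X j := by
  classical
  let Poly := MvPolynomial (Fin n) F
  let K := FractionRing Poly
  let τK : F →ₐ[k] K := IsScalarTower.toAlgHom k F K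
  let xK : Fin n → K := fun j => algebraMap Poly K (X j)
  let i₀ : Fin n := ⟨0, by omega⟩
  have hxK : IsUnit (xK i₀) :=
    ((map_ne_zero_iff _ (IsFractionRing.injective Poly K)).mpr (MvPolynomial.X_ne_zero i₀)).isUnit
  have hev : ∀ z : Poly, MvPolynomial.eval₂ (τK : F →+* K) xK z = algebraMap Poly K z := fun z => by
    have : MvPolynomial.eval₂Hom (τK : F →+* K) xK = algebraMap Poly K := MvPolynomial.ringHom_ext
      (fun a => by
        rw [MvPolynomial.eval₂Hom_C]
        exact IsScalarTower.algebraMap_apply F Poly K a)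
      (fun j => by simp [xK])
    exact RingHom.congr_fun this z
  obtain ⟨j, hj⟩ := hPp.exists_ne_zero
  have hPK : IsUnit (evalV τK xK P j) := by
    rw [evalV, hev]
    exact ((map_ne_zero_iff _ (IsFractionRing.injective Poly K)).mpr hj).isUnit
  have h := hinv K τK _ (isLine_span hxK)
  rw [hP K τK xK i₀ hxK, hQ K τK _ j hPK] at h
  have hcomp : evalV τK (evalV τK xK P) Q = algebraMap Poly K ∘ (fun l => bind₁ P (Q l)) := funext fun l => by
    rw [Function.comp_apply, ← hev]
    simp only [evalV]
    rw [← MvPolynomial.coe_eval₂Hom, ← MvPolynomial.coe_eval₂Hom, MvPolynomial.eval₂Hom_bind₁]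
    rfl
  rw [hcomp] at h
  have hmem : algebraMap Poly K ∘ (fun l => bind₁ P (Q l)) ∈ Submodule.span K {xK} :=
    h ▸ Submodule.mem_span_singleton_self _
  obtain ⟨t, ht⟩ := Submodule.mem_span_singleton.mp hmem
  obtain ⟨H, hH⟩ := (primitive_X F hn).exists_eq_smul (Q := fun l => bind₁ P (Q l)) fun a b =>
    IsFractionRing.injective Poly K (by
      have ha : t * algebraMap Poly K (X a) = algebraMap Poly K (bind₁ P (Q a)) := congrFun ht a
      have hb : t * algebraMap Poly K (X b) = algebraMap Poly K (bind₁ P (Q b)) := congrFun ht b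
      rw [map_mul, map_mul, ← ha, ← hb]
      ring)
  have hH' : ∀ l, bind₁ P (Q l) = H * X l := fun l => congrFun hH l
  have hne : ∀ a, a ≠ 0 → eval a H ≠ 0 := by
    intro a ha h0
    apply eval_ne_zero hη' (by omega) hQ (eval_ne_zero hη (by omega) hP ha)
    funext l
    have := congrArg (eval a) (hH' l)
    rw [map_mul, h0, zero_mul, MvPolynomial.eval, MvPolynomial.eval₂Hom_bind₁] at this
    exact this
  have he₀ : (Pi.single i₀ 1 : Fin n → F) ≠ 0 := by simp
  refine ⟨eval (Pi.single i₀ 1) H, hne _ he₀, fun l => ?_⟩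
  rw [hH' l, ← eq_C_of_eval (by omega) (fun a ha => eval_const hn hne ha he₀)]

theorem exists_matrix [IsAlgClosed F] {η η' : Fam k F n} (hη : η.IsNatural) (hη' : η'.IsNatural) (hn : 1 ≤ n)
    (hinv : ∀ (R : Type u) [CommRing R] [Algebra k R] (τ : F →ₐ[k] R) (L : Submodule R (Fin n → R)),
      IsLine L → η' R τ (η R τ L) = L)
    (hmap : ∀ (R S : Type u) [CommRing R] [Algebra k R] [CommRing S] [Algebra k S] (φ : R →ₐ[k] S)
      (_ : F →ₐ[k] R) (L : Submodule R (Fin n → R)), IsLine L → IsLine (mapL φ.toRingHom L)) :
    ∃ g : Matrix (Fin n) (Fin n) F, IsUnit g ∧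
      ∀ (R : Type u) [CommRing R] [Algebra k R] (τ : F →ₐ[k] R) (L : Submodule R (Fin n → R)),
        IsLine L → η R τ L = L.map (g.map τ).vecMulLinear := by
  classical
  obtain ⟨P, hPp, hP⟩ := exists_polys hη hn
  obtain ⟨g, hg, hgen⟩ : ∃ g : Matrix (Fin n) (Fin n) F, IsUnit g ∧
      ∀ (R : Type u) [CommRing R] [Algebra k R] (τ : F →ₐ[k] R) (v : Fin n → R) (i : Fin n), IsUnit (v i) →
        η R τ (Submodule.span R {v}) = Submodule.span R {v ᵥ* (g.map τ)} := by
    rcases Nat.lt_or_ge n 2 with hn2 | hn2
    · obtain rfl : n = 1 := by omega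
      refine ⟨1, isUnit_one, fun R _ _ τ v i hv => ?_⟩
      rw [show (1 : Matrix (Fin 1) (Fin 1) F).map τ = 1 from Matrix.map_one _ (map_zero _) (map_one _), Matrix.vecMul_one]
      have htop : ∀ (T : Type u) [CommRing T] (w : Fin 1 → T), IsUnit (w 0) → Submodule.span T {w} = ⊤ :=
        fun T _ w hw => eq_top_iff.mpr fun x _ => by
        obtain ⟨c, hc⟩ := hw.exists_left_inv
        refine Submodule.mem_span_singleton.mpr ⟨x 0 * c, funext fun l => ?_⟩
        rw [Subsingleton.elim l 0, Pi.smul_apply, smul_eq_mul, mul_assoc, hc, mul_one]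
      rw [Subsingleton.elim i 0] at hv
      refine eq_of_forall_mapL_eq fun p _ => ?_
      let φ : R →ₐ[k] Localization.AtPrime p := IsScalarTower.toAlgHom k R _
      have hl := (hmap R _ φ τ _ (hη.isLine R τ _ (isLine_span hv))).exists_generator le_rfl
      obtain ⟨w, l, hw, hgen⟩ := hl
      rw [Subsingleton.elim l 0] at hw
      change mapL φ.toRingHom _ = mapL φ.toRingHom _
      rw [hgen, htop _ w hw, mapL_span_singleton, htop _ _ (by exact hv.map φ.toRingHom)]
    obtain ⟨Q, hQp, hQ⟩ := exists_polys hη' hn
    obtain ⟨c, hc, hQP⟩ := exists_comp_eq hη hη' hn2 hinv hPp hP hQ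
    let PF : (Fin n → F) → Fin n → F := fun a l => eval a (P l)
    have hQP' : ∀ a l, eval (PF a) (Q l) = c * a l := fun a l => by
      have := congrArg (eval a) (hQP l)
      rw [map_mul, eval_C, eval_X, MvPolynomial.eval, MvPolynomial.eval₂Hom_bind₁] at this
      exact this
    have hP0 : ∀ a, a ≠ 0 → PF a ≠ 0 := fun a ha => eval_ne_zero hη hn hP ha
    let line : (Fin n → F) → Fin n → Polynomial F := fun a l =>
      aeval (fun b => Polynomial.C (a b) * Polynomial.X) (P l)
    have hline : ∀ a l s, (line a l).eval s = eval (fun b => a b * s) (P l) := fun a l s => by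
      simp [line, eval_aeval_poly]
    have hprop : ∀ a, a ≠ 0 → ∀ j l, line a j * Polynomial.C (PF a l) = line a l * Polynomial.C (PF a j) := by
      intro a ha j l
      apply Polynomial.eq_of_infinite_eval_eq
      refine (Set.Finite.infinite_compl (Set.finite_singleton (0 : F))).mono fun s hs => ?_
      obtain ⟨i, hi⟩ := Function.ne_iff.mp ha
      have hu : IsUnit (a i) := isUnit_iff_ne_zero.mpr hi
      have hus : IsUnit ((fun b => a b * s) i) := isUnit_iff_ne_zero.mpr (mul_ne_zero hi hs)
      have h1 := hP F (AlgHom.id k F) a i hu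
      have h2 := hP F (AlgHom.id k F) (fun b => a b * s) i hus
      have hsp : Submodule.span F {fun b => a b * s} = Submodule.span F {a} := by
        have : (fun b => a b * s) = s • a := funext fun b => mul_comm _ _
        rw [this, Submodule.span_singleton_smul_eq (isUnit_iff_ne_zero.mpr hs)]
      rw [hsp, h1] at h2
      obtain ⟨t, ht⟩ := Submodule.mem_span_singleton.mp
        (h2.symm ▸ Submodule.mem_span_singleton_self (evalV (AlgHom.id k F) (fun b => a b * s) P) :
          evalV (AlgHom.id k F) (fun b => a b * s) P ∈ Submodule.span F {evalV (AlgHom.id k F) a P})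
      have ej : t * PF a j = eval (fun b => a b * s) (P j) := congrFun ht j
      have el : t * PF a l = eval (fun b => a b * s) (P l) := congrFun ht l
      show (line a j * Polynomial.C (PF a l)).eval s = (line a l * Polynomial.C (PF a j)).eval s
      rw [Polynomial.eval_mul, Polynomial.eval_mul, Polynomial.eval_C, Polynomial.eval_C, hline, hline, ← ej, ← el]
      ring
    have hzero : PF 0 = 0 := by
      by_contra hne
      obtain ⟨j, hj⟩ := Function.ne_iff.mp hne
      let e : Fin n → Fin n → F := fun b => Pi.single b 1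
      have hlineeq : ∀ b, Submodule.span F {PF (e b)} = Submodule.span F {PF 0} := by
        intro b
        have he : e b ≠ 0 := by simp [e]
        have h : ∀ l, PF 0 j * PF (e b) l = PF 0 l * PF (e b) j := fun l => by
          have := congrArg (Polynomial.eval 0) (hprop (e b) he j l)
          simp only [Polynomial.eval_mul, Polynomial.eval_C, hline, mul_zero] at this
          exact this
        have hr : PF (e b) j ≠ 0 := by
          intro h0
          apply hP0 _ he
          funext l
          have := h l
          rw [h0, mul_zero, mul_eq_zero] at this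
          exact this.resolve_left hj
        have : PF (e b) = (PF (e b) j / PF 0 j) • PF 0 := funext fun l => by
          rw [Pi.smul_apply, smul_eq_mul, div_mul_eq_mul_div, eq_div_iff hj]
          linear_combination h l
        rw [this, Submodule.span_singleton_smul_eq (isUnit_iff_ne_zero.mpr (div_ne_zero hr hj))]
      have key : ∀ b, η F (AlgHom.id k F) (Submodule.span F {e b}) = Submodule.span F {PF 0} := fun b => by
        rw [hP F _ (e b) b (by simp [e])]
        exact hlineeq b
      have h01 : Submodule.span F {e ⟨0, by omega⟩} = Submodule.span F {e ⟨1, by omega⟩} := by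
        rw [← hinv F (AlgHom.id k F) _ (isLine_span (v := e ⟨0, by omega⟩) (i := ⟨0, by omega⟩) (by simp [e])), key,
          ← key ⟨1, by omega⟩, hinv F _ _ (isLine_span (i := ⟨1, by omega⟩) (by simp [e]))]
      obtain ⟨t, ht⟩ := Submodule.mem_span_singleton.mp
        (h01 ▸ Submodule.mem_span_singleton_self (e ⟨0, by omega⟩) : e ⟨0, by omega⟩ ∈ Submodule.span F {e ⟨1, by omega⟩})
      have := congrFun ht ⟨0, by omega⟩
      simp [e] at this
    have hhom : ∀ a l, line a l = Polynomial.C (PF a l) * Polynomial.X := by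
      intro a l
      rcases eq_or_ne a 0 with rfl | ha
      · apply Polynomial.funext
        intro s
        rw [hline, Polynomial.eval_mul, Polynomial.eval_C]
        have h0 : (fun b => (0 : Fin n → F) b * s) = 0 := funext fun b => zero_mul _
        rw [h0, show eval (0 : Fin n → F) (P l) = 0 from congrFun hzero l, hzero]
        simp
      · obtain ⟨j, hj⟩ := Function.ne_iff.mp (hP0 a ha)
        obtain ⟨i, hi⟩ := Function.ne_iff.mp ha
        let f : Polynomial F := line a j * Polynomial.C (PF a j)⁻¹
        have hfl : ∀ b, line a b = f * Polynomial.C (PF a b) := fun b => by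
          simp only [f]
          rw [mul_assoc, mul_comm (Polynomial.C (PF a j)⁻¹), ← mul_assoc, hprop a ha j b, mul_assoc, ← map_mul,
            mul_inv_cancel₀ hj, map_one, mul_one]
        let G : Polynomial F := aeval (fun b => Polynomial.C (PF a b) * Polynomial.X) (Q i)
        have hGf : G.comp f = Polynomial.C (c * a i) * Polynomial.X := by
          apply Polynomial.funext
          intro s
          rw [Polynomial.eval_comp]
          have hG : G.eval (f.eval s) = eval (fun b => PF a b * f.eval s) (Q i) := by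
            simp [G, eval_aeval_poly]
          have hv : (fun b => PF a b * f.eval s) = PF (fun b => a b * s) := funext fun b => by
            rw [show PF (fun b => a b * s) b = (line a b).eval s from (hline a b s).symm, hfl]
            simp only [f, Polynomial.eval_mul, Polynomial.eval_C]
            ring
          rw [hG, hv, hQP']
          simp [mul_assoc]
        have hdeg : G.natDegree * f.natDegree = 1 := by
          rw [← Polynomial.natDegree_comp, hGf, Polynomial.natDegree_C_mul_X _ (mul_ne_zero hc hi)]
        have hf1 : f.natDegree = 1 := Nat.eq_one_of_mul_eq_one_left hdeg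
        obtain ⟨p, q, hpq⟩ := Polynomial.exists_eq_X_add_C_of_natDegree_le_one hf1.le
        have hf0 : f.eval 0 = 0 := by
          simp only [f, Polynomial.eval_mul, hline]
          have h0 : (fun b => a b * (0 : F)) = 0 := funext fun b => mul_zero _
          rw [h0, show eval (0 : Fin n → F) (P j) = 0 from congrFun hzero j, zero_mul]
        have hfone : f.eval 1 = 1 := by
          simp only [f, Polynomial.eval_mul, hline, mul_one, Polynomial.eval_C]
          exact mul_inv_cancel₀ hj
        rw [hpq] at hf0 hfone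
        simp at hf0
        rw [hf0] at hfone
        simp at hfone
        rw [hfl, hpq, hf0, hfone, map_zero, add_zero, map_one, one_mul, mul_comm]
    let g : Matrix (Fin n) (Fin n) F := Matrix.of fun b l => (P l).coeff (Finsupp.single b 1)
    have hPg : ∀ l, P l = ∑ b, C (g b l) * X b := fun l => MvPolynomial.funext fun a => by
      have := coeff_one_aeval_line a (P l)
      change (line a l).coeff 1 = _ at this
      rw [hhom a l, Polynomial.coeff_C_mul_X, if_pos rfl] at this
      rw [map_sum]
      simp only [map_mul, eval_C, eval_X]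
      exact this
    refine ⟨g, ?_, fun R _ _ τ v i hv => ?_⟩
    · rw [← Matrix.vecMul_injective_iff_isUnit]
      intro a a' haa'
      have hPFg : ∀ a, PF a = a ᵥ* g := fun a => funext fun l => by
        simp only [PF]
        rw [hPg l, map_sum]
        simp only [map_mul, eval_C, eval_X, Matrix.vecMul, dotProduct]
        exact Finset.sum_congr rfl fun b _ => mul_comm _ _
      funext l
      have h1 := hQP' a l
      have h2 := hQP' a' l
      rw [hPFg, show a ᵥ* g = a' ᵥ* g from haa', ← hPFg, h2] at h1
      exact mul_left_cancel₀ hc h1.symm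
    · rw [hP R τ v i hv]
      congr 2
      funext l
      simp only [evalV]
      rw [hPg l, MvPolynomial.eval₂_sum]
      simp only [eval₂_mul, eval₂_C, eval₂_X, Matrix.vecMul, dotProduct, Matrix.map_apply, RingHom.coe_coe]
      exact Finset.sum_congr rfl fun b _ => mul_comm _ _
  refine ⟨g, hg, fun R _ _ τ L hL => eq_of_forall_mapL_eq fun p _ => ?_⟩
  let φ : R →ₐ[k] Localization.AtPrime p := IsScalarTower.toAlgHom k R _
  change mapL φ.toRingHom _ = mapL φ.toRingHom _
  rw [← hη.natural R _ φ τ L hL]
  obtain ⟨v, i, hv, hgen'⟩ := (hmap R _ φ τ L hL).exists_generator hn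
  rw [hgen', hgen _ _ v i hv]
  have hcomm : ∀ w : Fin n → R, φ.toRingHom ∘ (w ᵥ* g.map τ) = (φ.toRingHom ∘ w) ᵥ* g.map (φ.comp τ) := fun w => by
    funext l
    simp [Matrix.vecMul, dotProduct, map_sum, map_mul]
  have h2 : mapL φ.toRingHom (L.map (g.map τ).vecMulLinear) =
      (mapL φ.toRingHom L).map (g.map (φ.comp τ)).vecMulLinear := by
    rw [mapL, mapL, Submodule.map_span, ← Set.image_comp]
    congr 1
    ext x
    simp only [Submodule.map_coe, Set.mem_image, SetLike.mem_coe, Function.comp_apply]
    constructor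
    · rintro ⟨_, ⟨w, hw, rfl⟩, rfl⟩
      exact ⟨w, hw, (hcomm w).symm⟩
    · rintro ⟨w, hw, rfl⟩
      exact ⟨_, ⟨w, hw, rfl⟩, hcomm w⟩
  rw [h2, hgen', Submodule.map_span, Set.image_singleton]
  rfl

end Core

end Groth.Agent.H02CA.SB
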