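import Groth.Prelude.Def_BrSev2
import Groth.Agent.H02CA.SB.Rigidity

/-!
# Left ideals of rank `n` in a split algebra and lines; automorphisms of the ideal functor
-/

set_option autoImplicit false

universe u

open TensorProduct Module

namespace Groth.Agent.H02CA.SB

section Functor

variable {k : Type u} [Field k] (A : Type u) [Ring A] [Algebra k A] {c : ℕ}
  {R S : Type u} [CommRing R] [Algebra k R] [CommRing S] [Algebra k S]

/-- Change of coefficients. -/
noncomputable abbrev mapA (φ : R →ₐ[k] S) : R ⊗[k] A →ₐ[k] S ⊗[k] A :=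
  Algebra.TensorProduct.map φ (AlgHom.id k A)

variable {A}

lemma mapA_smul (φ : R →ₐ[k] S) (r : R) (x : R ⊗[k] A) : mapA A φ (r • x) = φ r • mapA A φ x := by
  induction x using TensorProduct.induction_on with
  | zero => simp
  | tmul a b => simp [TensorProduct.smul_tmul']
  | add x y hx hy => rw [smul_add, map_add, hx, hy, map_add, smul_add]

/-- Base change of a point of the Grassmannian is the span of the image. -/
theorem map_eq_span (φ : R →ₐ[k] S) (N : Module.Grassmannian R (R ⊗[k] A) c) :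
    (Module.Grassmannian.map φ N).toSubmodule = Submodule.span S (mapA A φ '' (N.toSubmodule : Set (R ⊗[k] A))) := by
  algebraize [φ.toRingHom]
  haveI : IsScalarTower k R S := IsScalarTower.of_algebraMap_eq' φ.comp_algebraMap.symm
  let C := AlgebraTensorModule.cancelBaseChange k R S S A
  have hC : ∀ x : R ⊗[k] A, C (1 ⊗ₜ[R] x) = mapA A φ x := fun x => by
    induction x using TensorProduct.induction_on with
    | zero => simp
    | tmul r a =>
      simp only [C, AlgebraTensorModule.cancelBaseChange_tmul, Algebra.smul_def, mul_one]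
      simp [RingHom.algebraMap_toAlgebra]
    | add x y hx hy => rw [TensorProduct.tmul_add, map_add, hx, hy, map_add]
  rw [Module.Grassmannian.map_toSubmodule]
  refine le_antisymm (fun y hy => ?_) (Submodule.span_le.mpr ?_)
  · have hy' : N.toSubmodule.mkQ.baseChange S (C.symm y) = 0 := hy
    have hex := lTensor_exact S (LinearMap.exact_subtype_mkQ N.toSubmodule) (Submodule.mkQ_surjective _)
    obtain ⟨z, hz⟩ := (hex (C.symm y)).mp hy'
    have key : ∀ z : S ⊗[R] N.toSubmodule,
        C (N.toSubmodule.subtype.lTensor S z) ∈ Submodule.span S (mapA A φ '' (N.toSubmodule : Set (R ⊗[k] A))) := by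
      intro z
      induction z using TensorProduct.induction_on with
      | zero => simp
      | tmul s x =>
        have h1 : N.toSubmodule.subtype.lTensor S (s ⊗ₜ[R] x) = s • ((1 : S) ⊗ₜ[R] (x : R ⊗[k] A)) := by
          simp [TensorProduct.smul_tmul']
        rw [h1, map_smul, hC]
        exact Submodule.smul_mem _ _ (Submodule.subset_span ⟨_, x.2, rfl⟩)
      | add a b ha hb => rw [map_add, map_add]; exact add_mem ha hb
    have := key z
    rw [hz, LinearEquiv.apply_symm_apply] at this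
    exact this
  · rintro _ ⟨x, hx, rfl⟩
    show N.toSubmodule.mkQ.baseChange S (C.symm (mapA A φ x)) = 0
    rw [← hC, LinearEquiv.symm_apply_apply, LinearMap.baseChange_tmul, Submodule.mkQ_apply,
      (Submodule.Quotient.mk_eq_zero _).mpr hx, TensorProduct.tmul_zero]

lemma ideal_ext {N N' : BrSev.SBSet k A c R} (h : N.1.toSubmodule = N'.1.toSubmodule) : N = N' :=
  Subtype.ext (Module.Grassmannian.ext h)

/-- Functoriality of the ideal functor. -/
noncomputable def mapSB (φ : R →ₐ[k] S) (N : BrSev.SBSet k A c R) : BrSev.SBSet k A c S :=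
  ⟨Module.Grassmannian.map φ N.1, fun a x hx => by
    rw [map_eq_span] at hx ⊢
    induction hx using Submodule.span_induction with
    | zero => rw [mul_zero]; exact zero_mem _
    | add x y _ _ hx hy => rw [mul_add]; exact add_mem hx hy
    | smul s x _ hx => rw [mul_smul_comm]; exact Submodule.smul_mem _ _ hx
    | mem x hx =>
      obtain ⟨y, hy, rfl⟩ := hx
      induction a using TensorProduct.induction_on with
      | zero => rw [zero_mul]; exact zero_mem _
      | add a b ha hb => rw [add_mul]; exact add_mem ha hb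
      | tmul s b =>
        have : s ⊗ₜ[k] b = s • mapA A φ ((1 : R) ⊗ₜ[k] b) := by simp [TensorProduct.smul_tmul']
        rw [this, smul_mul_assoc, ← map_mul]
        exact Submodule.smul_mem _ _ (Submodule.subset_span ⟨_, N.2 _ _ hy, rfl⟩)⟩

lemma coe_mapSB (φ : R →ₐ[k] S) (N : BrSev.SBSet k A c R) :
    (mapSB φ N).1.toSubmodule = Submodule.span S (mapA A φ '' (N.1.toSubmodule : Set (R ⊗[k] A))) :=
  map_eq_span φ N.1

/-- Right multiplication by a unit. -/
noncomputable def mulUnit (w : (R ⊗[k] A)ˣ) : (R ⊗[k] A) ≃ₗ[R] (R ⊗[k] A) :=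
  LinearEquiv.ofLinearMap (LinearMap.mulRight R (w : R ⊗[k] A)) (LinearMap.mulRight R ((w⁻¹ : (R ⊗[k] A)ˣ) : R ⊗[k] A))
    (LinearMap.ext fun x => by simp [mul_assoc]) (LinearMap.ext fun x => by simp [mul_assoc])

/-- Right translation of an ideal. -/
noncomputable def rightMul (w : (R ⊗[k] A)ˣ) (N : BrSev.SBSet k A c R) : BrSev.SBSet k A c R :=
  ⟨{ toSubmodule := N.1.toSubmodule.map (mulUnit w).toLinearMap
     finite_quotient := Module.Finite.equiv (Submodule.Quotient.equiv N.1.toSubmodule _ (mulUnit w) rfl)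
     projective_quotient := Module.Projective.of_equiv (Submodule.Quotient.equiv N.1.toSubmodule _ (mulUnit w) rfl)
     rankAtStalk_eq := fun p => by
       rw [← Module.rankAtStalk_eq_of_equiv (Submodule.Quotient.equiv N.1.toSubmodule _ (mulUnit w) rfl)]
       exact N.1.rankAtStalk_eq p },
   by
     rintro a _ ⟨y, hy, rfl⟩
     exact ⟨a * y, N.2 a y hy, mul_assoc a y w⟩⟩

lemma mem_rightMul {w : (R ⊗[k] A)ˣ} {N : BrSev.SBSet k A c R} {x : R ⊗[k] A} :
    x ∈ (rightMul w N).1.toSubmodule ↔ ∃ y ∈ N.1.toSubmodule, y * (w : R ⊗[k] A) = x := by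
  simp [rightMul, mulUnit, Submodule.mem_map]

lemma rightMul_mul (w w' : (R ⊗[k] A)ˣ) (N : BrSev.SBSet k A c R) :
    rightMul w' (rightMul w N) = rightMul (w * w') N := ideal_ext (Submodule.ext fun x => by
  simp only [mem_rightMul]
  constructor
  · rintro ⟨_, ⟨y, hy, rfl⟩, rfl⟩
    exact ⟨y, hy, by rw [Units.val_mul, mul_assoc]⟩
  · rintro ⟨y, hy, rfl⟩
    exact ⟨_, ⟨y, hy, rfl⟩, by rw [Units.val_mul, mul_assoc]⟩)

lemma rightMul_one (N : BrSev.SBSet k A c R) : rightMul 1 N = N := ideal_ext (Submodule.ext fun x => by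
  simp [mem_rightMul])

lemma mapSB_rightMul (φ : R →ₐ[k] S) (w : (R ⊗[k] A)ˣ) (N : BrSev.SBSet k A c R) :
    mapSB φ (rightMul w N) = rightMul (Units.map (mapA A φ : R ⊗[k] A →* S ⊗[k] A) w) (mapSB φ N) := by
  refine ideal_ext ?_
  rw [coe_mapSB]
  show _ = (mapSB φ N).1.toSubmodule.map (mulUnit _).toLinearMap
  rw [coe_mapSB, Submodule.map_span, ← Set.image_comp]
  congr 1
  ext x
  simp only [Set.mem_image, SetLike.mem_coe, mem_rightMul, Function.comp_apply]
  constructor
  · rintro ⟨_, ⟨y, hy, rfl⟩, rfl⟩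
    exact ⟨y, hy, (map_mul (mapA A φ) y _).symm⟩
  · rintro ⟨y, hy, rfl⟩
    exact ⟨_, ⟨y, hy, rfl⟩, map_mul (mapA A φ) y _⟩

/-- The element `1 ⊗ a`. -/
noncomputable def oneTmul (R : Type u) [CommRing R] [Algebra k R] : Aˣ →* (R ⊗[k] A)ˣ :=
  Units.map (Algebra.TensorProduct.includeRight : A →ₐ[k] R ⊗[k] A).toMonoidHom

@[simp] lemma coe_oneTmul (R : Type u) [CommRing R] [Algebra k R] (a : Aˣ) :
    ((oneTmul R a : (R ⊗[k] A)ˣ) : R ⊗[k] A) = 1 ⊗ₜ[k] (a : A) := rfl

lemma mapA_oneTmul (φ : R →ₐ[k] S) (a : Aˣ) :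
    Units.map (mapA A φ : R ⊗[k] A →* S ⊗[k] A) (oneTmul R a) = oneTmul S a :=
  Units.ext (by simp)

end Functor

section Split

variable {k F : Type u} [Field k] [Field F] [Algebra k F] {A : Type u} [Ring A] [Algebra k A]
  [Module.Finite k A] {n : ℕ} [NeZero n] (e : F ⊗[k] A ≃ₐ[F] Matrix (Fin n) (Fin n) F)
  {R S : Type u} [CommRing R] [Algebra k R] [CommRing S] [Algebra k S]

/-- A splitting over an `F`-algebra. -/
noncomputable def psiHom (τ : F →ₐ[k] R) : R ⊗[k] A →ₐ[R] Matrix (Fin n) (Fin n) R :=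
  Algebra.TensorProduct.lift (Algebra.ofId R _)
    ((τ.mapMatrix).comp ((e.toAlgHom.restrictScalars k).comp Algebra.TensorProduct.includeRight))
    fun r _ => Algebra.commutes r _

lemma psiHom_tmul (τ : F →ₐ[k] R) (r : R) (a : A) :
    psiHom e τ (r ⊗ₜ[k] a) = r • (e (1 ⊗ₜ[k] a)).map τ := by
  rw [psiHom]
  exact (Algebra.TensorProduct.lift_tmul _ _ _ r a).trans (Algebra.smul_def r _).symm

lemma psiHom_nat (φ : R →ₐ[k] S) (τ : F →ₐ[k] R) (x : R ⊗[k] A) :
    psiHom e (φ.comp τ) (mapA A φ x) = (psiHom e τ x).map φ := by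
  induction x using TensorProduct.induction_on with
  | zero => simp
  | add x y hx hy => rw [map_add, map_add, hx, hy, map_add, Matrix.map_add _ (map_add φ)]
  | tmul r a =>
    rw [Algebra.TensorProduct.map_tmul, psiHom_tmul, psiHom_tmul, AlgHom.id_apply]
    ext i j
    simp

lemma psiHom_id (z : F ⊗[k] A) : psiHom e (AlgHom.id k F) z = e z := by
  induction z using TensorProduct.induction_on with
  | zero => simp
  | add x y hx hy => simp [hx, hy]
  | tmul r a =>
    rw [psiHom_tmul]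
    rw [show r ⊗ₜ[k] a = r • ((1 : F) ⊗ₜ[k] a) by simp [TensorProduct.smul_tmul'], map_smul]
    simp

lemma psiHom_mapA (τ : F →ₐ[k] R) (z : F ⊗[k] A) : psiHom e τ (mapA A τ z) = (e z).map τ := by
  rw [← psiHom_id e z, ← psiHom_nat, AlgHom.comp_id]

lemma psiHom_surjective (τ : F →ₐ[k] R) : Function.Surjective (psiHom e τ) := by
  intro M
  have h : ∀ i j, Matrix.single i j (M i j) = psiHom e τ (M i j • mapA A τ (e.symm (Matrix.single i j 1))) := fun i j => by
    rw [map_smul, psiHom_mapA, AlgEquiv.apply_symm_apply]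
    ext a b
    simp [Matrix.single_apply]
  refine ⟨∑ i, ∑ j, M i j • mapA A τ (e.symm (Matrix.single i j 1)), ?_⟩
  conv_rhs => rw [Matrix.matrix_eq_sum_single M]
  rw [map_sum]
  refine Finset.sum_congr rfl fun i _ => ?_
  rw [map_sum]
  exact Finset.sum_congr rfl fun j _ => (h i j).symm

lemma psiHom_bijective (τ : F →ₐ[k] R) : Function.Bijective (psiHom e τ) := by
  refine ⟨?_, psiHom_surjective e τ⟩
  have hA : Module.finrank k A = n * n := by
    rw [← Module.finrank_baseChange (R := F) (S := k) (M' := A), e.toLinearEquiv.finrank_eq, Module.finrank_matrix,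
      Module.finrank_self]
    simp
  let f : R ⊗[k] A ≃ₗ[R] Matrix (Fin n) (Fin n) R :=
    (Algebra.TensorProduct.basis R (Module.finBasisOfFinrankEq k A hA)).equiv (Matrix.stdBasis R (Fin n) (Fin n))
      finProdFinEquiv.symm
  exact OrzechProperty.injective_of_surjective_of_injective f.toLinearMap (psiHom e τ).toLinearMap f.injective
    (psiHom_surjective e τ)

/-- The splitting as an equivalence. -/
noncomputable def psi (τ : F →ₐ[k] R) : R ⊗[k] A ≃ₐ[R] Matrix (Fin n) (Fin n) R :=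
  AlgEquiv.ofBijective (psiHom e τ) (psiHom_bijective e τ)

@[simp] lemma psi_apply (τ : F →ₐ[k] R) (x : R ⊗[k] A) : psi e τ x = psiHom e τ x := rfl

/-- The `i`-th row. -/
noncomputable def row (τ : F →ₐ[k] R) (i : Fin n) : R ⊗[k] A →ₗ[R] (Fin n → R) :=
  LinearMap.proj i ∘ₗ (psi e τ).toLinearEquiv.toLinearMap

lemma row_apply (τ : F →ₐ[k] R) (i : Fin n) (x : R ⊗[k] A) : row e τ i x = psiHom e τ x i := rfl

lemma row_mul (τ : F →ₐ[k] R) (i : Fin n) (a x : R ⊗[k] A) :
    row e τ i (a * x) = ∑ j, psiHom e τ a i j • row e τ j x := by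
  funext l
  simp [row_apply, map_mul, Matrix.mul_apply, Finset.sum_apply]

/-- The ideal of matrices with rows in `L`. -/
noncomputable def idealOf (τ : F →ₐ[k] R) (L : Submodule R (Fin n → R)) : Submodule R (R ⊗[k] A) :=
  ⨅ i, L.comap (row e τ i)

lemma mem_idealOf {τ : F →ₐ[k] R} {L : Submodule R (Fin n → R)} {x : R ⊗[k] A} :
    x ∈ idealOf e τ L ↔ ∀ i, row e τ i x ∈ L := by
  simp [idealOf]

lemma idealOf_mul (τ : F →ₐ[k] R) (L : Submodule R (Fin n → R)) (a x : R ⊗[k] A) (hx : x ∈ idealOf e τ L) :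
    a * x ∈ idealOf e τ L :=
  (mem_idealOf e).mpr fun i => by
    rw [row_mul]
    exact Submodule.sum_mem _ fun j _ => L.smul_mem _ ((mem_idealOf e).mp hx j)

/-- The line of an ideal. -/
noncomputable def lineOf (τ : F →ₐ[k] R) (N : Submodule R (R ⊗[k] A)) : Submodule R (Fin n → R) :=
  N.map (row e τ 0)

/-- The matrix with a given zeroth row. -/
noncomputable def emb (τ : F →ₐ[k] R) (v : Fin n → R) : R ⊗[k] A :=
  (psi e τ).symm (Matrix.of fun i => if i = 0 then v else 0)

lemma row_emb (τ : F →ₐ[k] R) (v : Fin n → R) (i : Fin n) : row e τ i (emb e τ v) = if i = 0 then v else 0 := by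
  rw [row_apply, emb, ← psi_apply, AlgEquiv.apply_symm_apply]
  rfl

lemma lineOf_idealOf (τ : F →ₐ[k] R) (L : Submodule R (Fin n → R)) : lineOf e τ (idealOf e τ L) = L := by
  refine le_antisymm ?_ fun v hv => ⟨emb e τ v, (mem_idealOf e).mpr fun i => ?_, by rw [row_emb, if_pos rfl]⟩
  · rintro _ ⟨x, hx, rfl⟩
    exact (mem_idealOf e).mp hx 0
  · rw [row_emb]
    split
    · exact hv
    · exact zero_mem _

lemma idealOf_lineOf (τ : F →ₐ[k] R) {N : Submodule R (R ⊗[k] A)} (hN : ∀ a x, x ∈ N → a * x ∈ N) :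
    idealOf e τ (lineOf e τ N) = N := by
  refine le_antisymm (fun x hx => ?_) fun x hx => (mem_idealOf e).mpr fun i => ?_
  · choose y hy hyx using (mem_idealOf e).mp hx
    have : x = ∑ i, (psi e τ).symm (Matrix.single i 0 1) * y i := by
      apply (psi e τ).injective
      ext a b
      simp only [map_sum, map_mul, AlgEquiv.apply_symm_apply, Matrix.sum_apply]
      simp only [Matrix.mul_apply, Matrix.single_apply, ite_mul, one_mul, zero_mul, ite_and, eq_comm (a := (0 : Fin n))]
      simp only [Finset.sum_ite_irrel, Finset.sum_ite_eq', Finset.mem_univ, if_true, Finset.sum_const_zero]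
      exact (congrFun (hyx a) b).symm
    rw [this]
    exact Submodule.sum_mem _ fun i _ => hN _ _ (hy i)
  · refine ⟨(psi e τ).symm (Matrix.single 0 i 1) * x, hN _ _ hx, ?_⟩
    rw [row_mul]
    refine (Finset.sum_eq_single i (fun j _ hj => ?_) (by simp)).trans ?_
    · rw [← psi_apply, AlgEquiv.apply_symm_apply]
      simp [Matrix.single_apply, Ne.symm hj]
    · rw [← psi_apply, AlgEquiv.apply_symm_apply]
      simp

lemma row_mapA (φ : R →ₐ[k] S) (τ : F →ₐ[k] R) (i : Fin n) (x : R ⊗[k] A) :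
    row e (φ.comp τ) i (mapA A φ x) = φ.toRingHom ∘ row e τ i x := by
  funext l
  simp [row_apply, psiHom_nat]

lemma lineOf_mapSB {c : ℕ} (φ : R →ₐ[k] S) (τ : F →ₐ[k] R) (N : BrSev.SBSet k A c R) :
    lineOf e (φ.comp τ) (mapSB φ N).1.toSubmodule = mapL φ.toRingHom (lineOf e τ N.1.toSubmodule) := by
  rw [lineOf, coe_mapSB, Submodule.map_span, ← Set.image_comp, mapL, lineOf, Submodule.map_coe, ← Set.image_comp]
  congr 1
  ext y
  simp only [Set.mem_image, Function.comp_apply, row_mapA]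

lemma lineOf_rightMul {c : ℕ} (τ : F →ₐ[k] R) (w : (R ⊗[k] A)ˣ) (N : BrSev.SBSet k A c R) :
    lineOf e τ (rightMul w N).1.toSubmodule =
      (lineOf e τ N.1.toSubmodule).map (psiHom e τ (w : R ⊗[k] A)).vecMulLinear := by
  rw [lineOf, lineOf]
  show Submodule.map _ (Submodule.map _ _) = _
  rw [← Submodule.map_comp, ← Submodule.map_comp]
  congr 1
  refine LinearMap.ext fun x => funext fun l => ?_
  show psiHom e τ (x * (w : R ⊗[k] A)) 0 l = _
  rw [map_mul, Matrix.mul_apply]
  rfl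

variable (n) in
lemma mul_sub_one_eq : n * (n - 1) = n * n - n := by rw [Nat.mul_sub_one]

/-- Rows modulo `L`. -/
noncomputable def rowsQ (τ : F →ₐ[k] R) (L : Submodule R (Fin n → R)) :
    R ⊗[k] A →ₗ[R] (Fin n → (Fin n → R) ⧸ L) :=
  LinearMap.pi fun i => L.mkQ.comp (row e τ i)

lemma ker_rowsQ (τ : F →ₐ[k] R) (L : Submodule R (Fin n → R)) : LinearMap.ker (rowsQ e τ L) = idealOf e τ L := by
  ext x
  simp [rowsQ, mem_idealOf, funext_iff]

lemma rowsQ_surjective (τ : F →ₐ[k] R) (L : Submodule R (Fin n → R)) : Function.Surjective (rowsQ e τ L) := by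
  intro y
  choose v hv using fun i => L.mkQ_surjective (y i)
  refine ⟨(psi e τ).symm (Matrix.of v), funext fun i => ?_⟩
  show L.mkQ (psiHom e τ ((psi e τ).symm (Matrix.of v)) i) = y i
  rw [← psi_apply, AlgEquiv.apply_symm_apply]
  exact hv i

/-- The quotient by the ideal of a submodule. -/
noncomputable def quotEquiv (τ : F →ₐ[k] R) (L : Submodule R (Fin n → R)) :
    ((R ⊗[k] A) ⧸ idealOf e τ L) ≃ₗ[R] (Fin n → (Fin n → R) ⧸ L) :=
  (Submodule.quotEquivOfEq _ _ (ker_rowsQ e τ L).symm).trans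
    ((rowsQ e τ L).quotKerEquivOfSurjective (rowsQ_surjective e τ L))

theorem isLine_lineOf (τ : F →ₐ[k] R) (N : BrSev.SBSet k A (n * n - n) R) :
    IsLine (lineOf e τ N.1.toSubmodule) := by
  let E := (Submodule.quotEquivOfEq _ _ (idealOf_lineOf e τ N.2).symm).trans (quotEquiv e τ (lineOf e τ N.1.toSubmodule))
  haveI := N.1.finite_quotient
  haveI := N.1.projective_quotient
  haveI : Module.Projective R (Fin n → (Fin n → R) ⧸ lineOf e τ N.1.toSubmodule) := Module.Projective.of_equiv E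
  haveI hQ : Module.Projective R ((Fin n → R) ⧸ lineOf e τ N.1.toSubmodule) :=
    Module.Projective.of_split (LinearMap.single R (fun _ : Fin n => (Fin n → R) ⧸ lineOf e τ N.1.toSubmodule) (0 : Fin n))
      (LinearMap.proj (R := R) (φ := fun _ : Fin n => (Fin n → R) ⧸ lineOf e τ N.1.toSubmodule) (0 : Fin n))
      (LinearMap.ext fun x => by simp)
  refine ⟨hQ, fun p => ?_⟩
  have h := N.1.rankAtStalk_eq p
  rw [Module.rankAtStalk_eq_of_equiv E, Module.rankAtStalk_pi, finsum_eq_sum_of_fintype, Finset.sum_const,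
    Finset.card_univ, Fintype.card_fin, smul_eq_mul] at h
  exact Nat.eq_of_mul_eq_mul_left (Nat.pos_of_ne_zero (NeZero.ne n)) (h.trans (mul_sub_one_eq n).symm)

/-- The ideal of a line. -/
noncomputable def idealSB (τ : F →ₐ[k] R) (L : Submodule R (Fin n → R)) (hL : IsLine L) :
    BrSev.SBSet k A (n * n - n) R :=
  haveI := hL.projective
  haveI : Module.Projective R (Fin n → (Fin n → R) ⧸ L) :=
    Module.Projective.of_equiv (DFinsupp.linearEquivFunOnFintype (R := R) (M := fun _ : Fin n => (Fin n → R) ⧸ L))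
  ⟨{ toSubmodule := idealOf e τ L
     finite_quotient := Module.Finite.equiv (quotEquiv e τ L).symm
     projective_quotient := Module.Projective.of_equiv (quotEquiv e τ L).symm
     rankAtStalk_eq := fun p => by
       rw [Module.rankAtStalk_eq_of_equiv (quotEquiv e τ L), Module.rankAtStalk_pi, finsum_eq_sum_of_fintype,
         Finset.sum_const, Finset.card_univ, Fintype.card_fin, smul_eq_mul, hL.rank p, mul_sub_one_eq] },
   idealOf_mul e τ L⟩

lemma lineOf_idealSB (τ : F →ₐ[k] R) (L : Submodule R (Fin n → R)) (hL : IsLine L) :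
    lineOf e τ (idealSB e τ L hL).1.toSubmodule = L := lineOf_idealOf e τ L

lemma lineOf_injective (τ : F →ₐ[k] R) {N N' : BrSev.SBSet k A (n * n - n) R}
    (h : lineOf e τ N.1.toSubmodule = lineOf e τ N'.1.toSubmodule) : N = N' :=
  ideal_ext (by rw [← idealOf_lineOf e τ N.2, h, idealOf_lineOf e τ N'.2])

lemma eq_idealSB (τ : F →ₐ[k] R) (L : Submodule R (Fin n → R)) (hL : IsLine L) {N : BrSev.SBSet k A (n * n - n) R}
    (h : lineOf e τ N.1.toSubmodule = L) : idealSB e τ L hL = N :=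
  lineOf_injective e τ ((lineOf_idealSB e τ L hL).trans h.symm)

include e in
lemma isLine_mapL (φ : R →ₐ[k] S) (τ : F →ₐ[k] R) (L : Submodule R (Fin n → R)) (hL : IsLine L) :
    IsLine (mapL φ.toRingHom L) := by
  have h := isLine_lineOf e (φ.comp τ) (mapSB φ (idealSB e τ L hL))
  rwa [lineOf_mapSB, lineOf_idealSB] at h

include e in
/-- Units fixing all ideals are scalars. -/
theorem exists_smul_of_forall_rightMul_eq (τ : F →ₐ[k] R) (w : (R ⊗[k] A)ˣ)
    (h : ∀ N : BrSev.SBSet k A (n * n - n) R, rightMul w N = N) : ∃ r : R, (w : R ⊗[k] A) = r • 1 := by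
  set G := psiHom e τ (w : R ⊗[k] A) with hG
  have key : ∀ (v : Fin n → R) (i : Fin n), IsUnit (v i) → ∃ t : R, t • v = Matrix.vecMul v G := fun v i hv => by
    have h1 := lineOf_rightMul e τ w (idealSB e τ _ (isLine_span hv))
    rw [h, lineOf_idealSB, Submodule.map_span, Set.image_singleton] at h1
    exact Submodule.mem_span_singleton.mp (h1.symm ▸ Submodule.mem_span_singleton_self _)
  refine ⟨G 0 0, (psi e τ).injective ?_⟩
  rw [map_smul, map_one, psi_apply]
  have hoff : ∀ a b, a ≠ b → G a b = 0 := fun a b hab => by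
    obtain ⟨t, ht⟩ := key (Pi.single a 1) a (by simp)
    have := congrFun ht b
    simpa [Pi.single_apply, hab.symm] using this.symm
  have hdiag : ∀ a, G a a = G 0 0 := fun a => by
    rcases eq_or_ne a 0 with rfl | ha
    · rfl
    obtain ⟨t, ht⟩ := key (Pi.single a 1 + Pi.single 0 1) a (by simp [ha])
    have h1 := congrFun ht a
    have h2 := congrFun ht 0
    simp [Matrix.add_vecMul, ha, Ne.symm ha, hoff 0 a (Ne.symm ha), hoff a 0 ha] at h1 h2
    rw [← h1, ← h2]
  ext a b
  rcases eq_or_ne a b with rfl | hab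
  · simp [← hG, hdiag a]
  · simp [← hG, hoff a b hab, hab]

end Split

section Descent

variable {k : Type u} [Field k] {A : Type u} [Ring A] [Algebra k A] [Module.Finite k A] {n : ℕ} [NeZero n]

/-- Natural automorphisms of the ideal functor are right translations. -/
theorem exists_rightMul {F : Type u} [Field F] [Algebra k F] [IsAlgClosed F]
    (e : F ⊗[k] A ≃ₐ[F] Matrix (Fin n) (Fin n) F)
    (Φ : ∀ (R : Type u) [CommRing R] [Algebra k R], BrSev.SBSet k A (n * n - n) R ≃ BrSev.SBSet k A (n * n - n) R)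
    (hΦ : ∀ (R S : Type u) [CommRing R] [Algebra k R] [CommRing S] [Algebra k S] (φ : R →ₐ[k] S)
      (N : BrSev.SBSet k A (n * n - n) R), Φ S (mapSB φ N) = mapSB φ (Φ R N)) :
    ∃ a : Aˣ, ∀ (R : Type u) [CommRing R] [Algebra k R] (N : BrSev.SBSet k A (n * n - n) R),
      Φ R N = rightMul (oneTmul R a) N := by
  classical
  have hΦ' : ∀ (R S : Type u) [CommRing R] [Algebra k R] [CommRing S] [Algebra k S] (φ : R →ₐ[k] S)
      (N : BrSev.SBSet k A (n * n - n) R), (Φ S).symm (mapSB φ N) = mapSB φ ((Φ R).symm N) := fun R S _ _ _ _ φ N => by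
    rw [Equiv.symm_apply_eq, hΦ, Equiv.apply_symm_apply]
  let fam : (∀ (R : Type u) [CommRing R] [Algebra k R], BrSev.SBSet k A (n * n - n) R ≃ BrSev.SBSet k A (n * n - n) R) →
      Fam k F n := fun Ψ R _ _ τ L =>
    if h : IsLine L then lineOf e τ (Ψ R (idealSB e τ L h)).1.toSubmodule else L
  have hfam : ∀ Ψ : (∀ (R : Type u) [CommRing R] [Algebra k R],
        BrSev.SBSet k A (n * n - n) R ≃ BrSev.SBSet k A (n * n - n) R),
      (∀ (R S : Type u) [CommRing R] [Algebra k R] [CommRing S] [Algebra k S] (φ : R →ₐ[k] S)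
        (N : BrSev.SBSet k A (n * n - n) R), Ψ S (mapSB φ N) = mapSB φ (Ψ R N)) → (fam Ψ).IsNatural := by
    intro Ψ hΨ
    refine ⟨fun R _ _ τ L hL => ?_, fun R S _ _ _ _ φ τ L hL => ?_⟩
    · simp only [fam, dif_pos hL]
      exact isLine_lineOf e τ _
    · simp only [fam, dif_pos hL, dif_pos (isLine_mapL e φ τ L hL)]
      rw [eq_idealSB e (φ.comp τ) _ _ (N := mapSB φ (idealSB e τ L hL)) (by rw [lineOf_mapSB, lineOf_idealSB]),
        hΨ, lineOf_mapSB]
  obtain ⟨g, hg, hgΦ⟩ := exists_matrix (hfam Φ hΦ) (hfam (fun R _ _ => (Φ R).symm) hΦ')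
    (Nat.one_le_iff_ne_zero.mpr (NeZero.ne n)) (fun R _ _ τ L hL => by
      have h1 : IsLine (fam Φ R τ L) := (hfam Φ hΦ).isLine R τ L hL
      simp only [fam, dif_pos hL] at h1 ⊢
      rw [dif_pos h1, eq_idealSB e τ _ h1 rfl, Equiv.symm_apply_apply, lineOf_idealSB])
    (fun R S _ _ _ _ φ τ L hL => isLine_mapL e φ τ L hL)
  let u : (F ⊗[k] A)ˣ := (hg.map e.symm).unit
  have heu : e (u : F ⊗[k] A) = g := by simp [u]
  have hτ : ∀ (R : Type u) [CommRing R] [Algebra k R] (τ : F →ₐ[k] R) (N : BrSev.SBSet k A (n * n - n) R),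
      Φ R N = rightMul (Units.map (mapA A τ : F ⊗[k] A →* R ⊗[k] A) u) N := fun R _ _ τ N => by
    apply lineOf_injective e τ
    have h := hgΦ R τ _ (isLine_lineOf e τ N)
    simp only [fam, dif_pos (isLine_lineOf e τ N)] at h
    rw [eq_idealSB e τ _ _ rfl] at h
    rw [h, lineOf_rightMul]
    congr 2
    show g.map τ = psiHom e τ (mapA A τ (u : F ⊗[k] A))
    rw [psiHom_mapA, heu]
  let i₁ : F →ₐ[k] F ⊗[k] F := Algebra.TensorProduct.includeLeft
  let i₂ : F →ₐ[k] F ⊗[k] F := Algebra.TensorProduct.includeRight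
  let u₁ := Units.map (mapA A i₁ : F ⊗[k] A →* (F ⊗[k] F) ⊗[k] A) u
  let u₂ := Units.map (mapA A i₂ : F ⊗[k] A →* (F ⊗[k] F) ⊗[k] A) u
  obtain ⟨r, hr⟩ := exists_smul_of_forall_rightMul_eq e i₁ (u₁ * u₂⁻¹) fun N => by
    rw [← rightMul_mul, ← hτ _ i₁, hτ _ i₂, rightMul_mul, mul_inv_cancel, rightMul_one]
  have hu12 : (u₁ : (F ⊗[k] F) ⊗[k] A) = r • (u₂ : (F ⊗[k] F) ⊗[k] A) := by
    conv_lhs => rw [← inv_mul_cancel_right u₁ u₂]
    rw [Units.val_mul, hr, smul_mul_assoc, one_mul]
  let b := Module.finBasis k A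
  let bF := Algebra.TensorProduct.basis F b
  let bFF := Algebra.TensorProduct.basis (F ⊗[k] F) b
  have hcoord : ∀ (φ : F →ₐ[k] F ⊗[k] F) (x : F ⊗[k] A) (l), bFF.repr (mapA A φ x) l = φ (bF.repr x l) := by
    intro φ x l
    induction x using TensorProduct.induction_on with
    | zero => simp
    | add x y hx hy => simp [map_add, hx, hy]
    | tmul c a => simp [bFF, bF, Algebra.TensorProduct.basis_repr_tmul, map_smul]
  have hl : ∀ l, i₁ (bF.repr u l) = r * i₂ (bF.repr u l) := fun l => by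
    rw [← hcoord i₁, ← hcoord i₂]
    have := congrArg (fun x => bFF.repr x l) hu12
    simpa [u₁, u₂] using this
  obtain ⟨l₀, hl₀⟩ : ∃ l, bF.repr (u : F ⊗[k] A) l ≠ 0 := by
    by_contra h
    push Not at h
    have : (u : F ⊗[k] A) = 0 := bF.repr.injective (by ext l; simpa using h l)
    have h1 := heu
    rw [this, map_zero] at h1
    rw [← h1] at hg
    exact not_isUnit_zero hg
  let c := bF.repr (u : F ⊗[k] A) l₀
  obtain ⟨f, hf⟩ : ∃ f : F →ₗ[k] k, f 1 = 1 := by
    obtain ⟨f, hf⟩ := Module.Projective.exists_dual_ne_zero k (one_ne_zero (α := F))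
    exact ⟨(f 1)⁻¹ • f, by simp [inv_mul_cancel₀ hf]⟩
  have hscalar : ∀ l, ∃ t : k, bF.repr (u : F ⊗[k] A) l = c * algebraMap k F t := fun l => by
    have h1 : i₁ (bF.repr u l * c⁻¹) = i₂ (bF.repr u l * c⁻¹) := by
      have hc : IsUnit (i₁ c) := (isUnit_iff_ne_zero.mpr hl₀).map i₁
      have hc2 : IsUnit (i₂ c) := (isUnit_iff_ne_zero.mpr hl₀).map i₂
      apply hc.mul_left_cancel
      apply hc2.mul_left_cancel
      have e1 : i₁ c * i₁ (bF.repr u l * c⁻¹) = i₁ (bF.repr u l) := by
        rw [← map_mul, mul_comm, inv_mul_cancel_right₀ hl₀]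
      have e2 : i₂ c * i₂ (bF.repr u l * c⁻¹) = i₂ (bF.repr u l) := by
        rw [← map_mul, mul_comm, inv_mul_cancel_right₀ hl₀]
      rw [e1, mul_left_comm, e2, hl l]
      have := hl l₀
      linear_combination (-(i₂ (bF.repr u l))) * this
    have h2 := congrArg ((TensorProduct.rid k F).toLinearMap ∘ₗ f.lTensor F) h1
    simp [i₁, i₂, hf] at h2
    refine ⟨f (bF.repr (u : F ⊗[k] A) l * c⁻¹), ?_⟩
    rw [← Algebra.algebraMap_eq_smul_one] at h2
    rw [← h2, mul_comm, inv_mul_cancel_right₀ hl₀]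
  choose t ht using hscalar
  let a : A := ∑ l, t l • b l
  have hua : (u : F ⊗[k] A) = c • ((1 : F) ⊗ₜ[k] a) := by
    conv_lhs => rw [← bF.sum_repr (u : F ⊗[k] A)]
    rw [TensorProduct.tmul_sum, Finset.smul_sum]
    refine Finset.sum_congr rfl fun l _ => ?_
    rw [ht l, Algebra.TensorProduct.basis_apply, mul_smul, TensorProduct.tmul_smul, algebraMap_smul]
  have hau : IsUnit a := by
    have hinj : Function.Injective (LinearMap.mulLeft k a) := by
      rw [injective_iff_map_eq_zero]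
      intro y hy
      have h1 : (u : F ⊗[k] A) * ((1 : F) ⊗ₜ[k] y) = 0 := by
        rw [hua, smul_mul_assoc, Algebra.TensorProduct.tmul_mul_tmul, show a * y = 0 from hy, TensorProduct.tmul_zero,
          smul_zero]
      have h2 : (1 : F) ⊗ₜ[k] y = 0 := (Units.mul_right_eq_zero u).mp h1
      have h3 := congrArg ((TensorProduct.lid k A).toLinearMap ∘ₗ f.rTensor A) h2
      simpa [hf] using h3
    obtain ⟨y, hy⟩ := (LinearMap.injective_iff_surjective.mp hinj) 1
    refine ⟨⟨a, y, hy, ?_⟩, rfl⟩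
    apply hinj
    show a * (y * a) = a * 1
    rw [← mul_assoc, show a * y = 1 from hy, one_mul, mul_one]
  refine ⟨hau.unit, fun R _ _ N => ?_⟩
  have hbase : ∀ (R : Type u) [CommRing R] [Algebra k R] (τ : F →ₐ[k] R) (N : BrSev.SBSet k A (n * n - n) R),
      Φ R N = rightMul (oneTmul R hau.unit) N := fun R _ _ τ N => by
    rw [hτ R τ N]
    refine ideal_ext (Submodule.ext fun x => ?_)
    simp only [mem_rightMul, coe_oneTmul, IsUnit.unit_spec]
    have hc : IsUnit (τ c) := (isUnit_iff_ne_zero.mpr hl₀).map τ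
    obtain ⟨d, hd⟩ := hc.exists_left_inv
    have hm : ((Units.map (mapA A τ : F ⊗[k] A →* R ⊗[k] A) u : (R ⊗[k] A)ˣ) : R ⊗[k] A) =
        τ c • ((1 : R) ⊗ₜ[k] a) := by
      show mapA A τ (u : F ⊗[k] A) = _
      rw [hua, mapA_smul]
      simp
    constructor
    · rintro ⟨y, hy, rfl⟩
      exact ⟨τ c • y, N.1.toSubmodule.smul_mem _ hy, by rw [hm, smul_mul_assoc, mul_smul_comm]⟩
    · rintro ⟨y, hy, rfl⟩
      refine ⟨d • y, N.1.toSubmodule.smul_mem _ hy, ?_⟩
      rw [hm, smul_mul_assoc, mul_smul_comm, smul_smul, hd, one_smul]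
  let R' := R ⊗[k] F
  let j : R →ₐ[k] R' := Algebra.TensorProduct.includeLeft
  let τ : F →ₐ[k] R' := Algebra.TensorProduct.includeRight
  let g₀ : R' →ₗ[k] R := (TensorProduct.rid k R).toLinearMap ∘ₗ f.lTensor R
  have hg : ∀ (r : R) (x : F), g₀ (r ⊗ₜ[k] x) = f x • r := fun r x =>
    (congrArg (TensorProduct.rid k R) (LinearMap.lTensor_tmul R f r x)).trans (TensorProduct.rid_tmul _ _)
  let Gm : R' ⊗[k] A →ₗ[k] R ⊗[k] A := g₀.rTensor A
  have hGm : ∀ (s : R') (y : R ⊗[k] A), Gm (s • mapA A j y) = g₀ s • y := by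
    intro s y
    induction y using TensorProduct.induction_on with
    | zero => simp
    | add y z hy hz => rw [map_add, smul_add, map_add, hy, hz, smul_add]
    | tmul r b =>
      induction s using TensorProduct.induction_on with
      | zero => simp
      | add s t hs ht => rw [add_smul, map_add, hs, ht, map_add, add_smul]
      | tmul r' x =>
        have h1 : (r' ⊗ₜ[k] x : R') * j r = (r' * r) ⊗ₜ[k] x := by
          show (r' ⊗ₜ[k] x : R ⊗[k] F) * (r ⊗ₜ[k] (1 : F)) = _
          rw [Algebra.TensorProduct.tmul_mul_tmul, mul_one]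
        simp only [Gm, Algebra.TensorProduct.map_tmul, AlgHom.id_apply, TensorProduct.smul_tmul', LinearMap.rTensor_tmul,
          smul_eq_mul]
        rw [h1, hg, hg, smul_mul_assoc]
  have hinj : ∀ N₁ N₂ : BrSev.SBSet k A (n * n - n) R, mapSB j N₁ = mapSB j N₂ → N₁.1.toSubmodule ≤ N₂.1.toSubmodule := by
    intro N₁ N₂ h x hx
    have h1 : mapA A j x ∈ Submodule.span R' (mapA A j '' (N₂.1.toSubmodule : Set (R ⊗[k] A))) := by
      rw [← coe_mapSB, ← h, coe_mapSB]
      exact Submodule.subset_span ⟨x, hx, rfl⟩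
    have key : ∀ z ∈ Submodule.span R' (mapA A j '' (N₂.1.toSubmodule : Set (R ⊗[k] A))), ∀ s : R',
        Gm (s • z) ∈ N₂.1.toSubmodule := by
      intro z hz
      induction hz using Submodule.span_induction with
      | zero => intro s; simp
      | add y z _ _ hy hz => intro s; rw [smul_add, map_add]; exact add_mem (hy s) (hz s)
      | smul t z _ hz => intro s; rw [smul_smul]; exact hz _
      | mem z hz =>
        obtain ⟨y, hy, rfl⟩ := hz
        intro s
        rw [hGm]
        exact N₂.1.toSubmodule.smul_mem _ hy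
    have h2 := key _ h1 1
    rw [hGm, show g₀ 1 = 1 by rw [Algebra.TensorProduct.one_def, hg, hf, one_smul], one_smul] at h2
    exact h2
  have key : mapSB j (Φ R N) = mapSB j (rightMul (oneTmul R hau.unit) N) := by
    rw [← hΦ, hbase R' τ, mapSB_rightMul, mapA_oneTmul]
  exact ideal_ext (le_antisymm (hinj _ _ key) (hinj _ _ key.symm))

/-- A unit acting trivially is central. -/
theorem mem_range_of_rightMul_eq {F : Type u} [Field F] [Algebra k F] (e : F ⊗[k] A ≃ₐ[F] Matrix (Fin n) (Fin n) F)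
    (a : Aˣ) (h : ∀ N : BrSev.SBSet k A (n * n - n) F, rightMul (oneTmul F a) N = N) :
    (a : A) ∈ (algebraMap k A).range := by
  obtain ⟨r, hr⟩ := exists_smul_of_forall_rightMul_eq e (AlgHom.id k F) _ h
  obtain ⟨f, hf⟩ : ∃ f : F →ₗ[k] k, f 1 = 1 := by
    obtain ⟨f, hf⟩ := Module.Projective.exists_dual_ne_zero k (one_ne_zero (α := F))
    exact ⟨(f 1)⁻¹ • f, by simp [inv_mul_cancel₀ hf]⟩
  have h3 := congrArg ((TensorProduct.lid k A).toLinearMap ∘ₗ f.rTensor A) hr
  simp [hf, Algebra.TensorProduct.one_def, TensorProduct.smul_tmul'] at h3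
  exact ⟨f r, by rw [Algebra.algebraMap_eq_smul_one, ← h3]⟩

end Descent

end Groth.Agent.H02CA.SB
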