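import Mathlib

/-!
# Lines in `R ^ n`: submodules with projective quotient of rank `n - 1`
-/

set_option autoImplicit false

universe u

open Module

namespace Groth.Agent.H02CA.SB

variable {R : Type u} [CommRing R] {n : ℕ}

/-- A line: a submodule whose quotient is projective of rank `n - 1`. -/
structure IsLine (L : Submodule R (Fin n → R)) : Prop where
  projective : Module.Projective R ((Fin n → R) ⧸ L)
  rank : ∀ p, Module.rankAtStalk (R := R) ((Fin n → R) ⧸ L) p = n - 1

/-- The `R`-span of the image of `L` in `S ^ n`. -/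
def mapL {S : Type u} [CommRing S] (φ : R →+* S) (L : Submodule R (Fin n → R)) : Submodule S (Fin n → S) :=
  Submodule.span S ((fun v => φ ∘ v) '' (L : Set (Fin n → R)))

lemma mem_mapL {S : Type u} [CommRing S] (φ : R →+* S) {L : Submodule R (Fin n → R)} {v : Fin n → R}
    (hv : v ∈ L) : φ ∘ v ∈ mapL φ L := Submodule.subset_span ⟨v, hv, rfl⟩

lemma mapL_span_singleton {S : Type u} [CommRing S] (φ : R →+* S) (v : Fin n → R) :
    mapL φ (Submodule.span R {v}) = Submodule.span S {φ ∘ v} := by
  apply le_antisymm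
  · refine Submodule.span_le.mpr ?_
    rintro _ ⟨w, hw, rfl⟩
    obtain ⟨c, rfl⟩ := Submodule.mem_span_singleton.mp hw
    exact Submodule.mem_span_singleton.mpr ⟨φ c, funext fun j => by simp⟩
  · exact Submodule.span_le.mpr (Set.singleton_subset_iff.mpr (mem_mapL φ (Submodule.mem_span_singleton_self v)))

/-- Vectors with a unit coordinate span lines. -/
lemma isLine_span {v : Fin n → R} {i : Fin n} (hv : IsUnit (v i)) : IsLine (Submodule.span R {v}) := by
  obtain ⟨c, hc⟩ := hv.exists_left_inv
  let ψ : (Fin n → R) →ₗ[R] {j : Fin n // j ≠ i} → R :=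
    LinearMap.pi fun j => LinearMap.proj (j : Fin n) - (c * v j) • LinearMap.proj i
  have hker : LinearMap.ker ψ = Submodule.span R {v} := by
    ext w
    rw [LinearMap.mem_ker, Submodule.mem_span_singleton]
    constructor
    · intro h
      refine ⟨c * w i, funext fun j => ?_⟩
      by_cases hj : j = i
      · subst hj
        simp only [Pi.smul_apply, smul_eq_mul]
        linear_combination (w j) * hc
      · have := congrFun h ⟨j, hj⟩
        simp [ψ] at this
        simp only [Pi.smul_apply, smul_eq_mul]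
        linear_combination -this
    · rintro ⟨a, rfl⟩
      ext ⟨j, hj⟩
      simp [ψ]
      linear_combination -(a * v j) * hc
  have hsurj : Function.Surjective ψ := fun y => by
    refine ⟨fun j => if h : j = i then 0 else y ⟨j, h⟩, ?_⟩
    ext ⟨j, hj⟩
    simp [ψ, hj]
  let e : ((Fin n → R) ⧸ Submodule.span R {v}) ≃ₗ[R] ({j : Fin n // j ≠ i} → R) :=
    (Submodule.quotEquivOfEq _ _ hker.symm).trans (ψ.quotKerEquivOfSurjective hsurj)
  haveI : Module.Free R ((Fin n → R) ⧸ Submodule.span R {v}) := Module.Free.of_equiv e.symm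
  refine ⟨inferInstance, fun p => ?_⟩
  haveI : Nontrivial R := nontrivial_iff.mpr ⟨0, 1, fun h => p.2.ne_top (Ideal.eq_top_of_isUnit_mem _ p.asIdeal.zero_mem
    (h ▸ isUnit_one))⟩
  rw [Module.rankAtStalk_eq_finrank_of_free, Pi.natCast_apply, Nat.cast_id, e.finrank_eq, Module.finrank_pi]
  simp [Fintype.card_subtype_compl]

/-- A line is the range of an idempotent endomorphism. -/
lemma IsLine.exists_projection {L : Submodule R (Fin n → R)} (hL : IsLine L) :
    ∃ (e : ((Fin n → R)) ≃ₗ[R] L × ((Fin n → R) ⧸ L)), ∀ l : L, e l = (l, 0) := by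
  haveI := hL.projective
  obtain ⟨s, hs⟩ := Module.projective_lifting_property L.mkQ LinearMap.id L.mkQ_surjective
  have hs' : ∀ q, L.mkQ (s q) = q := fun q => LinearMap.congr_fun hs q
  let π : (Fin n → R) →ₗ[R] L := (LinearMap.id - s.comp L.mkQ).codRestrict L fun v => by
    rw [← Submodule.Quotient.mk_eq_zero, ← Submodule.mkQ_apply]
    change L.mkQ (v - s (L.mkQ v)) = 0
    rw [map_sub, hs', sub_self]
  have hπ : ∀ v, (π v : Fin n → R) = v - s (L.mkQ v) := fun _ => rfl
  refine ⟨LinearEquiv.ofLinearMap (π.prod L.mkQ) (L.subtype.coprod s) ?_ ?_, fun l => ?_⟩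
  · refine LinearMap.ext fun x => Prod.ext (Subtype.ext ?_) ?_
    · show (π ((x.1 : Fin n → R) + s x.2) : Fin n → R) = x.1
      rw [hπ]
      have : L.mkQ ((x.1 : Fin n → R) + s x.2) = x.2 := by
        rw [map_add, hs']; simp
      rw [this, add_sub_cancel_right]
    · show L.mkQ ((x.1 : Fin n → R) + s x.2) = x.2
      rw [map_add, hs']
      simp
  · refine LinearMap.ext fun v => ?_
    show (π v : Fin n → R) + s (L.mkQ v) = v
    rw [hπ, sub_add_cancel]
  · have h0 : L.mkQ (l : Fin n → R) = 0 := by simp
    refine Prod.ext (Subtype.ext ?_) ?_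
    · show (π l : Fin n → R) = l
      rw [hπ, h0, map_zero, sub_zero]
    · exact h0

lemma IsLine.saturated [IsDomain R] {L : Submodule R (Fin n → R)} (hL : IsLine L) {c : R} (hc : c ≠ 0)
    {v : Fin n → R} (h : c • v ∈ L) : v ∈ L := by
  haveI := hL.projective
  rw [← Submodule.Quotient.mk_eq_zero] at h ⊢
  rw [Submodule.Quotient.mk_smul] at h
  exact (smul_eq_zero.mp h).resolve_left hc

/-- Over a local ring a line is spanned by a vector with a unit coordinate. -/
lemma IsLine.exists_generator [IsLocalRing R] (hn : 1 ≤ n) {L : Submodule R (Fin n → R)} (hL : IsLine L) :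
    ∃ (v : Fin n → R) (i : Fin n), IsUnit (v i) ∧ L = Submodule.span R {v} := by
  classical
  haveI := hL.projective
  haveI : Module.Free R ((Fin n → R) ⧸ L) := Module.free_of_flat_of_isLocalRing
  obtain ⟨e, he⟩ := hL.exists_projection
  let π : (Fin n → R) →ₗ[R] L := (LinearMap.fst R _ _).comp e.toLinearMap
  have hπ : ∀ l : L, π l = l := fun l => by simp [π, he]
  haveI : Module.Finite R L := Module.Finite.of_surjective π fun l => ⟨l, hπ l⟩
  haveI : Module.Projective R L := Module.Projective.of_split L.subtype π (LinearMap.ext hπ)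
  haveI : Module.Free R L := Module.free_of_flat_of_isLocalRing
  have hQ : Module.finrank R ((Fin n → R) ⧸ L) = n - 1 := by
    have := hL.rank (IsLocalRing.closedPoint R)
    rwa [Module.rankAtStalk_eq_finrank_of_free, Pi.natCast_apply, Nat.cast_id] at this
  have hd := e.finrank_eq
  rw [Module.finrank_fin_fun, Module.finrank_prod, hQ] at hd
  have hL1 : Module.finrank R L = 1 := by omega
  obtain ⟨b⟩ : Nonempty (Module.Basis (Fin 1) R L) := ⟨Module.finBasisOfFinrankEq R L hL1⟩
  refine ⟨b 0, ?_⟩
  have hspan : L = Submodule.span R {((b 0 : L) : Fin n → R)} := by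
    refine le_antisymm (fun w hw => ?_) (Submodule.span_le.mpr (Set.singleton_subset_iff.mpr (b 0).2))
    refine Submodule.mem_span_singleton.mpr ⟨b.repr ⟨w, hw⟩ 0, ?_⟩
    have h := congrArg Subtype.val (b.sum_repr ⟨w, hw⟩)
    simpa [Fin.sum_univ_one] using h
  have h1 : ∑ j, (b 0 : Fin n → R) j * b.repr (π (Pi.single j 1)) 0 = 1 := by
    have hv : (b 0 : Fin n → R) = ∑ j, (b 0 : Fin n → R) j • Pi.single j (1 : R) := by
      ext l; simp [Finset.sum_apply, Pi.single_apply, eq_comm]
    have h := congrArg (fun x => b.repr (π x) 0) hv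
    simp only [hπ, map_sum, map_smul, Finsupp.coe_finsetSum, Finset.sum_apply, Finsupp.coe_smul, Pi.smul_apply,
      smul_eq_mul, Module.Basis.repr_self, Finsupp.single_eq_same] at h
    exact h.symm
  obtain ⟨j, -, hj⟩ := IsLocalRing.exists_of_isUnit_sum (h1 ▸ isUnit_one)
  exact ⟨j, isUnit_of_mul_isUnit_left hj, hspan⟩

/-- Membership can be tested in localisations. -/
lemma mem_of_forall_mem_mapL {L : Submodule R (Fin n → R)} {v : Fin n → R}
    (h : ∀ (p : Ideal R) [p.IsMaximal], algebraMap R (Localization.AtPrime p) ∘ v ∈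
      mapL (algebraMap R (Localization.AtPrime p)) L) : v ∈ L := by
  classical
  by_contra hv
  let J : Ideal R := L.colon {v}
  have hJ : J ≠ ⊤ := fun hT => hv (by
    have h1 : (1 : R) ∈ J := hT ▸ Submodule.mem_top
    rw [Submodule.mem_colon_singleton, one_smul] at h1
    exact h1)
  obtain ⟨p, hp, hJp⟩ := Ideal.exists_le_maximal J hJ
  have key : ∀ z ∈ mapL (algebraMap R (Localization.AtPrime p)) L, ∃ s ∈ p.primeCompl, ∃ l ∈ L,
      algebraMap R (Localization.AtPrime p) s • z = algebraMap R (Localization.AtPrime p) ∘ l := by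
    intro z hz
    induction hz using Submodule.span_induction with
    | mem z hz =>
      obtain ⟨l, hl, rfl⟩ := hz
      exact ⟨1, p.primeCompl.one_mem, l, hl, by simp⟩
    | zero => exact ⟨1, p.primeCompl.one_mem, 0, L.zero_mem, by ext; simp⟩
    | add z w _ _ hz hw =>
      obtain ⟨s, hs, l, hl, h1⟩ := hz
      obtain ⟨t, ht, l', hl', h2⟩ := hw
      refine ⟨s * t, mul_mem hs ht, t • l + s • l', add_mem (L.smul_mem t hl) (L.smul_mem s hl'), ?_⟩
      funext j
      have e1 := congrFun h1 j
      have e2 := congrFun h2 j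
      simp only [Pi.smul_apply, smul_eq_mul, Function.comp_apply] at e1 e2
      simp only [Pi.smul_apply, Pi.add_apply, smul_eq_mul, Function.comp_apply, map_mul, map_add]
      linear_combination (algebraMap R (Localization.AtPrime p) t) * e1 +
        (algebraMap R (Localization.AtPrime p) s) * e2
    | smul c z _ hz =>
      obtain ⟨s, hs, l, hl, h1⟩ := hz
      obtain ⟨⟨r, t⟩, hrt⟩ := IsLocalization.surj p.primeCompl c
      refine ⟨s * t, mul_mem hs t.2, r • l, L.smul_mem r hl, ?_⟩
      funext j
      have e1 := congrFun h1 j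
      simp only [Pi.smul_apply, smul_eq_mul, Function.comp_apply] at e1
      simp only [Pi.smul_apply, smul_eq_mul, Function.comp_apply, map_mul]
      rw [← e1, ← hrt]
      ring
  obtain ⟨s, hs, l, hl, hsl⟩ := key _ (h p)
  have : ∀ j, ∃ t : p.primeCompl, (t : R) * (s * v j - l j) = 0 := fun j => by
    refine (IsLocalization.map_eq_zero_iff p.primeCompl (Localization.AtPrime p) _).mp ?_
    have := congrFun hsl j
    simp only [Pi.smul_apply, smul_eq_mul, Function.comp_apply] at this
    rw [map_sub, map_mul, this, sub_self]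
  choose t ht using this
  have hmem : (∏ j, (t j : R)) * s ∈ J := by
    rw [Submodule.mem_colon_singleton]
    have : ((∏ j, (t j : R)) * s) • v = (∏ j, (t j : R)) • l := by
      funext j
      simp only [Pi.smul_apply, smul_eq_mul]
      rw [← Finset.mul_prod_erase Finset.univ (fun j => (t j : R)) (Finset.mem_univ j)]
      linear_combination (∏ x ∈ Finset.univ.erase j, (t x : R)) * ht j
    rw [this]
    exact L.smul_mem _ hl
  exact (mul_mem (prod_mem fun j _ => (t j).2) hs : _ ∈ p.primeCompl) (hJp hmem)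

lemma eq_of_forall_mapL_eq {L M : Submodule R (Fin n → R)}
    (h : ∀ (p : Ideal R) [p.IsMaximal], mapL (algebraMap R (Localization.AtPrime p)) L =
      mapL (algebraMap R (Localization.AtPrime p)) M) : L = M :=
  le_antisymm (fun _ hv => mem_of_forall_mem_mapL fun p _ => (h p) ▸ mem_mapL _ hv)
    (fun _ hv => mem_of_forall_mem_mapL fun p _ => (h p).symm ▸ mem_mapL _ hv)

end Groth.Agent.H02CA.SB
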